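import Mathlib
import Cfsg.Agent.Lib.Coprime.Generation
import Cfsg.Agent.Lib.Coprime.Commutator
import Cfsg.Agent.Lib.Hall.Basic
import Cfsg.Agent.Lib.CharP.Basic

/-!
Tools for solvable groups in which any two of four primes, but no three, occur in the order of an
element: coprime action of an abelian group on an abelian group, planes, automorphisms of cyclic
subgroups.
-/

set_option autoImplicit false
set_option linter.style.haveILetI false
set_option linter.unusedSectionVars false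

namespace Cfsg.Agent.Lib.PrimeGraph.NoTriple

open Subgroup
open scoped Pointwise
open scoped commutatorElement

variable {G : Type*} [Group G]

theorem mem_cent {g x : G} : x ∈ centralizer ({g} : Set G) ↔ Commute x g :=
  mem_centralizer_singleton_iff

theorem le_cent_zpowers {g : G} {X : Subgroup G} :
    X ≤ centralizer (zpowers g : Set G) ↔ ∀ x ∈ X, Commute x g := by
  refine ⟨fun h x hx => (mem_centralizer_iff.1 (h hx) g (mem_zpowers g)).symm, fun h x hx => ?_⟩
  rw [mem_centralizer_iff]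
  rintro _ ⟨k, rfl⟩
  exact ((h x hx).zpow_right k).eq.symm

/-- elementary abelian `t`-subgroup -/
structure IsElem (t : ℕ) (E : Subgroup G) : Prop where
  comm : ∀ x ∈ E, ∀ y ∈ E, Commute x y
  pow : ∀ x ∈ E, x ^ t = 1

/-- elementary abelian of rank two -/
structure IsPlane (t : ℕ) (E : Subgroup G) : Prop extends IsElem t E where
  card : Nat.card E = t ^ 2

theorem IsElem.isMulCommutative {t : ℕ} {E : Subgroup G} (h : IsElem t E) : IsMulCommutative E :=
  ⟨⟨fun a b => Subtype.ext (h.comm a a.2 b b.2)⟩⟩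

theorem IsElem.isPGroup {t : ℕ} {E : Subgroup G} (h : IsElem t E) : IsPGroup t E :=
  fun x => ⟨1, Subtype.ext (by simpa using h.pow x x.2)⟩

theorem IsElem.orderOf_eq {t : ℕ} [Fact t.Prime] {E : Subgroup G} (h : IsElem t E) {x : G}
    (hx : x ∈ E) (hx1 : x ≠ 1) : orderOf x = t :=
  orderOf_eq_prime (h.pow x hx) hx1

theorem IsElem.mono {t : ℕ} {E F : Subgroup G} (h : IsElem t E) (hle : F ≤ E) : IsElem t F :=
  ⟨fun x hx y hy => h.comm x (hle hx) y (hle hy), fun x hx => h.pow x (hle hx)⟩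

theorem IsPlane.not_isCyclic {t : ℕ} [ht : Fact t.Prime] [Finite G] {E : Subgroup G}
    (h : IsPlane t E) : ¬ IsCyclic E := fun hc => by
  obtain ⟨g, hg⟩ := IsCyclic.exists_ofOrder_eq_natCard (α := E)
  have h1 : orderOf g ∣ t := orderOf_dvd_of_pow_eq_one (Subtype.ext (by simpa using h.pow g g.2))
  have h2 := Nat.le_of_dvd ht.out.pos h1
  rw [hg, h.card] at h2
  nlinarith [ht.out.two_le]

/-- conjugation -/
theorem IsPlane.map {t : ℕ} {G' : Type*} [Group G'] {E : Subgroup G} (h : IsPlane t E)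
    (f : G →* G') (hf : Function.Injective f) : IsPlane t (E.map f) := by
  refine ⟨⟨?_, ?_⟩, by rw [Subgroup.card_map_of_injective hf, h.card]⟩
  · rintro _ ⟨x, hx, rfl⟩ _ ⟨y, hy, rfl⟩
    exact (h.comm x hx y hy).map f
  · rintro _ ⟨x, hx, rfl⟩
    rw [← map_pow, h.pow x hx, map_one]

theorem orderOf_conj (g x : G) : orderOf (g * x * g⁻¹) = orderOf x :=
  orderOf_injective (MulAut.conj g).toMonoidHom (MulAut.conj g).injective x

/-- A nontrivial element of a group of prime order generates it. -/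
theorem zpowers_eq_of_mem {t : ℕ} [ht : Fact t.Prime] [Finite G] {a b : G} (ha : orderOf a = t)
    (hb : b ∈ zpowers a) (hb1 : b ≠ 1) : zpowers b = zpowers a := by
  refine eq_of_le_of_card_ge (zpowers_le.2 hb) ?_
  have h1 : orderOf b ∣ t := by
    rw [← ha, ← Nat.card_zpowers a]; exact Subgroup.orderOf_dvd_natCard _ hb
  rcases (Nat.dvd_prime ht.out).1 h1 with h | h
  · exact absurd (orderOf_eq_one_iff.1 h) hb1
  · rw [Nat.card_zpowers, Nat.card_zpowers, h, ha]

theorem commute_of_mem_zpowers {t : ℕ} [Fact t.Prime] [Finite G] {a b x : G} (ha : orderOf a = t)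
    (hb : b ∈ zpowers a) (hb1 : b ≠ 1) (h : Commute x b) : Commute x a := by
  have hz : a ∈ zpowers b := by rw [zpowers_eq_of_mem ha hb hb1]; exact mem_zpowers a
  obtain ⟨k, hk⟩ := hz
  simpa only [← hk] using h.zpow_right k

theorem inf_zpowers_eq_bot {t : ℕ} [Fact t.Prime] [Finite G] {a : G} (ha : orderOf a = t)
    {X : Subgroup G} (h : a ∉ X) : X ⊓ zpowers a = ⊥ := by
  rw [eq_bot_iff_forall]
  rintro b ⟨hbX, hb⟩
  by_contra hb1
  have : a ∈ zpowers b := by rw [zpowers_eq_of_mem ha hb hb1]; exact mem_zpowers a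
  exact h (zpowers_le.2 hbX this)

theorem conj_mem_normalizer [Finite G] {a g : G} (h : g * a * g⁻¹ ∈ zpowers a) :
    g ∈ normalizer (zpowers a : Set G) := by
  rw [mem_normalizer_iff_map_conj_eq]
  refine eq_of_le_of_card_ge ?_ ?_
  · rw [MonoidHom.map_zpowers, zpowers_le]; exact h
  · exact (Nat.card_congr (Subgroup.equivMapOfInjective (zpowers a)
      (MulAut.conj g : G ≃* G).toMonoidHom (MulAut.conj g).injective).toEquiv).le

theorem mem_normalizer_zpowers_self_of_commute [Finite G] {a g : G} (h : Commute g a) :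
    g ∈ normalizer (zpowers a : Set G) :=
  conj_mem_normalizer (by rw [h.eq, mul_inv_cancel_right]; exact mem_zpowers a)

/-- Elements commuting with `g` normalise `X ⊓ C(g)` if they normalise `X`. -/
theorem mem_normalizer_inf_cent {X : Subgroup G} {g h : G} (hX : h ∈ normalizer (X : Set G))
    (hg : Commute h g) : h ∈ normalizer ((X ⊓ centralizer {g} : Subgroup G) : Set G) := by
  rw [mem_normalizer_iff]
  intro x
  simp only [SetLike.mem_coe, mem_inf, mem_cent]
  refine and_congr (mem_normalizer_iff.1 hX x) ⟨fun hx => ?_, fun hx => ?_⟩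
  · exact (hg.mul_left hx).mul_left hg.inv_left
  · have := (hg.inv_left.mul_left hx).mul_left hg
    simpa [mul_assoc] using this

theorem coprime_of_isPGroup [Finite G] {p t : ℕ} (hp : p.Prime) (ht : t.Prime) (hne : p ≠ t)
    {A B : Subgroup G} (hA : IsPGroup p A) (hB : IsPGroup t B) :
    (Nat.card A).Coprime (Nat.card B) := by
  haveI := Fact.mk hp
  haveI := Fact.mk ht
  obtain ⟨m, hm⟩ := IsPGroup.iff_card.1 hA
  obtain ⟨n, hn⟩ := IsPGroup.iff_card.1 hB
  rw [hm, hn]
  exact Nat.Coprime.pow m n ((Nat.coprime_primes hp ht).2 hne)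

theorem isPGroup_zpowers {t : ℕ} {a : G} (ha : orderOf a = t) : IsPGroup t (zpowers a) :=
  IsPGroup.of_card (n := 1) (by rw [Nat.card_zpowers, ha, pow_one])

/-- The set product of a subgroup and a subgroup normalising it. -/
theorem card_sup_eq_mul [Finite G] {A B : Subgroup G} (hB : B ≤ normalizer (A : Set G))
    (hd : A ⊓ B = ⊥) : Nat.card (A ⊔ B : Subgroup G) = Nat.card A * Nat.card B := by
  have hset : ((A ⊔ B : Subgroup G) : Set G) = (A : Set G) * (B : Set G) :=
    Subgroup.coe_mul_of_right_le_normalizer_left A B hB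
  have e : (↥A × ↥B) ≃ ↥(A ⊔ B) := Equiv.ofBijective
    (fun x => ⟨x.1 * x.2, mul_mem (mem_sup_left x.1.2) (mem_sup_right x.2.2)⟩)
    ⟨fun x y h => mul_injective_of_disjoint (disjoint_iff.2 hd) (congrArg Subtype.val h),
      fun y => by
        obtain ⟨u, hu, v, hv, huv⟩ : (y : G) ∈ (A : Set G) * (B : Set G) := hset ▸ y.2
        exact ⟨(⟨u, hu⟩, ⟨v, hv⟩), Subtype.ext huv⟩⟩
  rw [← Nat.card_congr e, Nat.card_prod]

/-- Two independent commuting elements of order `t` generate a plane. -/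
theorem isPlane_of_commute [Finite G] {t : ℕ} [Fact t.Prime] {x y : G} (hx : orderOf x = t)
    (hy : orderOf y = t) (hxy : Commute x y) (hnot : y ∉ zpowers x) :
    IsPlane t (zpowers x ⊔ zpowers y) := by
  have hn : zpowers y ≤ normalizer (zpowers x : Set G) :=
    zpowers_le.2 (mem_normalizer_zpowers_self_of_commute hxy.symm)
  have hset : ((zpowers x ⊔ zpowers y : Subgroup G) : Set G)
      = (zpowers x : Set G) * (zpowers y : Set G) :=
    Subgroup.coe_mul_of_right_le_normalizer_left _ _ hn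
  refine ⟨⟨?_, ?_⟩, ?_⟩
  · intro a ha b hb
    obtain ⟨_, ⟨i, rfl⟩, _, ⟨j, rfl⟩, rfl⟩ : a ∈ (zpowers x : Set G) * (zpowers y : Set G) := hset ▸ ha
    obtain ⟨_, ⟨k, rfl⟩, _, ⟨l, rfl⟩, rfl⟩ : b ∈ (zpowers x : Set G) * (zpowers y : Set G) := hset ▸ hb
    exact (((Commute.refl x).zpow_zpow i k).mul_right (hxy.zpow_zpow i l)).mul_left
      ((hxy.symm.zpow_zpow j k).mul_right ((Commute.refl y).zpow_zpow j l))
  · intro a ha
    obtain ⟨_, ⟨i, rfl⟩, _, ⟨j, rfl⟩, rfl⟩ : a ∈ (zpowers x : Set G) * (zpowers y : Set G) := hset ▸ ha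
    have h1 : (x ^ i) ^ t = 1 := by
      rw [← zpow_natCast, zpow_comm, zpow_natCast, ← hx, pow_orderOf_eq_one, one_zpow]
    have h2 : (y ^ j) ^ t = 1 := by
      rw [← zpow_natCast, zpow_comm, zpow_natCast, ← hy, pow_orderOf_eq_one, one_zpow]
    show (x ^ i * y ^ j) ^ t = 1
    rw [(hxy.zpow_zpow i j).mul_pow, h1, h2, one_mul]
  · rw [card_sup_eq_mul hn (inf_zpowers_eq_bot hy hnot), Nat.card_zpowers, Nat.card_zpowers, hx, hy,
      sq]

/-- Two independent elements of a plane generate it. -/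
theorem IsPlane.sup_eq [Finite G] {t : ℕ} [Fact t.Prime] {E : Subgroup G} (h : IsPlane t E)
    {x y : G} (hx : x ∈ E) (hy : y ∈ E) (hx1 : x ≠ 1) (hnot : y ∉ zpowers x) :
    zpowers x ⊔ zpowers y = E := by
  have hy1 : y ≠ 1 := by rintro rfl; exact hnot (one_mem _)
  refine eq_of_le_of_card_ge (sup_le (zpowers_le.2 hx) (zpowers_le.2 hy)) ?_
  rw [h.card, (isPlane_of_commute (h.orderOf_eq hx hx1) (h.orderOf_eq hy hy1) (h.comm x hx y hy)
    hnot).card]

/-! ### The key lemma -/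

open scoped IsMulCommutative in
/-- An abelian-module version of the Frobenius argument: if `C` normalises `Z`, no nontrivial element
of `C` centralises a nontrivial element of `Z` and `C` fixes no point of the abelian group `V`, then
`Z` centralises `V`. -/
theorem key [Finite G] {Z C V : Subgroup G} (hV : ∀ a ∈ V, ∀ b ∈ V, Commute a b)
    (hZV : Z ≤ normalizer (V : Set G)) (hCV : C ≤ normalizer (V : Set G))
    (hCZ : C ≤ normalizer (Z : Set G))
    (hfree : ∀ c ∈ C, c ≠ 1 → Z ⊓ centralizer {c} = ⊥)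
    (hfix : V ⊓ centralizer (C : Set G) = ⊥) (hcop : (Nat.card Z).Coprime (Nat.card V)) :
    Z ≤ centralizer (V : Set G) := by
  classical
  haveI : IsMulCommutative V := ⟨⟨fun a b => Subtype.ext (hV a a.2 b b.2)⟩⟩
  haveI : Fintype Z := Fintype.ofFinite Z
  haveI : Fintype C := Fintype.ofFinite C
  let fz : Z → V →* V := fun z => (V.normalizerMonoidHom ⟨z, hZV z.2⟩).toMonoidHom
  let fc : C → V →* V := fun c => (V.normalizerMonoidHom ⟨c, hCV c.2⟩).toMonoidHom
  have hz : ∀ (z : Z) (v : V), (fz z v : G) = z * v * (z : G)⁻¹ := fun _ _ => rfl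
  have hc : ∀ (c : C) (v : V), (fc c v : G) = c * v * (c : G)⁻¹ := fun _ _ => rfl
  have hF : ∀ w : V, ∏ c : C, fc c w = 1 := by
    intro w
    have h1 : ∀ d : C, fc d (∏ c : C, fc c w) = ∏ c : C, fc c w := by
      intro d
      rw [map_prod]
      refine Fintype.prod_equiv (Equiv.mulLeft d) _ _ fun c => Subtype.ext ?_
      simp [hc, mul_assoc]
    have h2 : ((∏ c : C, fc c w : V) : G) ∈ V ⊓ centralizer (C : Set G) := by
      refine ⟨SetLike.coe_mem _, mem_centralizer_iff.2 fun d hd => ?_⟩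
      have := congrArg Subtype.val (h1 ⟨d, hd⟩)
      rw [hc] at this
      exact mul_inv_eq_iff_eq_mul.1 this
    rw [hfix, mem_bot] at h2
    exact Subtype.ext h2
  intro z0 hz0
  rw [mem_centralizer_iff]
  intro v0 hv0
  set v : V := ⟨v0, hv0⟩ with hv
  have hA : ∏ c : C, ∏ z : Z, fz z (fc c v) = 1 := by
    rw [Finset.prod_comm]
    refine Finset.prod_eq_one fun z _ => ?_
    rw [← map_prod, hF, map_one]
  have hB : ∏ c : C, ∏ z : Z, fz z (fc c (fz z⁻¹ v)) = 1 := by
    rw [Finset.prod_comm]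
    refine Finset.prod_eq_one fun z _ => ?_
    rw [← map_prod, hF, map_one]
  have heq : ∀ c : C, c ≠ 1 → ∏ z : Z, fz z (fc c (fz z⁻¹ v)) = ∏ z : Z, fz z (fc c v) := by
    intro c hc1
    have hmem : ∀ z : Z, (z : G) * c * (z : G)⁻¹ * (c : G)⁻¹ ∈ Z := by
      intro z
      have h3 : (c : G) * (z : G)⁻¹ * (c : G)⁻¹ ∈ Z :=
        (mem_normalizer_iff.1 (hCZ c.2) _).1 (inv_mem z.2)
      simpa [mul_assoc] using mul_mem z.2 h3
    let τ : Z → Z := fun z => ⟨_, hmem z⟩
    have hτ : Function.Injective τ := by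
      intro z z' h
      have h' : (z : G) * c * (z : G)⁻¹ * (c : G)⁻¹ = (z' : G) * c * (z' : G)⁻¹ * (c : G)⁻¹ :=
        congrArg Subtype.val h
      have h4 : (z' : G)⁻¹ * z ∈ Z ⊓ centralizer {(c : G)} := by
        refine ⟨Z.mul_mem (Z.inv_mem z'.2) z.2, mem_cent.2 ?_⟩
        have h5 : (z : G) * c * (z : G)⁻¹ = z' * c * (z' : G)⁻¹ := mul_right_cancel h'
        show (z' : G)⁻¹ * z * c = c * ((z' : G)⁻¹ * z)
        calc (z' : G)⁻¹ * z * c = (z' : G)⁻¹ * ((z : G) * c * (z : G)⁻¹) * z := by group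
          _ = (z' : G)⁻¹ * (z' * c * (z' : G)⁻¹) * z := by rw [h5]
          _ = c * ((z' : G)⁻¹ * z) := by group
      rw [hfree c c.2 (fun h => hc1 (Subtype.ext h)), mem_bot] at h4
      exact Subtype.ext (inv_mul_eq_one.1 h4).symm
    refine Fintype.prod_bijective τ (Finite.injective_iff_bijective.1 hτ) _ _ fun z =>
      Subtype.ext ?_
    simp [hz, hc, τ, mul_assoc]
  have hsplitA := Finset.mul_prod_erase Finset.univ (fun c : C => ∏ z : Z, fz z (fc c v))
    (Finset.mem_univ (1 : C))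
  have hsplitB := Finset.mul_prod_erase Finset.univ (fun c : C => ∏ z : Z, fz z (fc c (fz z⁻¹ v)))
    (Finset.mem_univ (1 : C))
  have hrest : ∏ c ∈ Finset.univ.erase (1 : C), ∏ z : Z, fz z (fc c (fz z⁻¹ v))
      = ∏ c ∈ Finset.univ.erase (1 : C), ∏ z : Z, fz z (fc c v) :=
    Finset.prod_congr rfl fun c hc => heq c (Finset.ne_of_mem_erase hc)
  simp only [hA] at hsplitA
  simp only [hB, hrest] at hsplitB
  have hNv : ∏ z : Z, fz z (fc 1 v) = v ^ Nat.card Z := by
    have h6 := mul_right_cancel (hsplitA.trans hsplitB.symm)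
    rw [h6]
    have h7 : ∀ z : Z, fz z (fc 1 (fz z⁻¹ v)) = v := fun z => Subtype.ext (by simp [hz, hc, mul_assoc])
    rw [Finset.prod_congr rfl fun z _ => h7 z, Finset.prod_const, Finset.card_univ,
      Nat.card_eq_fintype_card]
  have hinv : fz ⟨z0, hz0⟩ (∏ z : Z, fz z (fc 1 v)) = ∏ z : Z, fz z (fc 1 v) := by
    rw [map_prod]
    refine Fintype.prod_equiv (Equiv.mulLeft ⟨z0, hz0⟩) _ _ fun z => Subtype.ext ?_
    simp [hz, hc, mul_assoc]
  rw [hNv, map_pow] at hinv
  have h8 := congrArg Subtype.val ((powCoprime hcop.symm).injective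
    (a₁ := fz ⟨z0, hz0⟩ v) (a₂ := v) (by simpa [powCoprime] using hinv))
  rw [hz] at h8
  exact (mul_inv_eq_iff_eq_mul.1 h8).symm

/-- `key` for a cyclic `C` of prime order. -/
theorem key_one [Finite G] {s : ℕ} [Fact s.Prime] {Z V : Subgroup G} {u : G}
    (hV : ∀ a ∈ V, ∀ b ∈ V, Commute a b) (hu : orderOf u = s)
    (hZV : Z ≤ normalizer (V : Set G)) (huV : u ∈ normalizer (V : Set G))
    (huZ : u ∈ normalizer (Z : Set G)) (hfree : Z ⊓ centralizer {u} = ⊥)
    (hfix : V ⊓ centralizer {u} = ⊥) (hcop : (Nat.card Z).Coprime (Nat.card V)) :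
    Z ≤ centralizer (V : Set G) := by
  refine key hV hZV (zpowers_le.2 huV) (zpowers_le.2 huZ) (fun c hc hc1 => ?_) ?_ hcop
  · rw [eq_bot_iff_forall]
    rintro z ⟨hz, hzc⟩
    have : z ∈ Z ⊓ centralizer {u} :=
      ⟨hz, mem_cent.2 (commute_of_mem_zpowers hu hc hc1 (mem_cent.1 hzc))⟩
    rwa [hfree, mem_bot] at this
  · rw [eq_bot_iff_forall]
    rintro z ⟨hz, hzc⟩
    have : z ∈ V ⊓ centralizer {u} :=
      ⟨hz, mem_cent.2 (mem_centralizer_iff.1 hzc u (mem_zpowers u)).symm⟩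
    rwa [hfix, mem_bot] at this

/-- `key` for a cyclic `C` generated by commuting elements of two prime orders. -/
theorem key_two [Finite G] {r s : ℕ} [hr : Fact r.Prime] [hs : Fact s.Prime] {Z V : Subgroup G}
    {x u : G} (hrs : r ≠ s) (hV : ∀ a ∈ V, ∀ b ∈ V, Commute a b) (hx : orderOf x = r)
    (hu : orderOf u = s) (hxu : Commute x u) (hZV : Z ≤ normalizer (V : Set G))
    (hxV : x ∈ normalizer (V : Set G)) (huV : u ∈ normalizer (V : Set G))
    (hxZ : x ∈ normalizer (Z : Set G)) (huZ : u ∈ normalizer (Z : Set G))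
    (hfx : Z ⊓ centralizer {x} = ⊥) (hfu : Z ⊓ centralizer {u} = ⊥)
    (hfix : ∀ w ∈ V, Commute w x → Commute w u → w = 1)
    (hcop : (Nat.card Z).Coprime (Nat.card V)) : Z ≤ centralizer (V : Set G) := by
  have hle : zpowers (x * u) ≤ normalizer (Z : Set G) := zpowers_le.2 (mul_mem hxZ huZ)
  have hle' : zpowers (x * u) ≤ normalizer (V : Set G) := zpowers_le.2 (mul_mem hxV huV)
  have hxs : (x * u) ^ s = x ^ s := by
    rw [hxu.mul_pow, ← hu, pow_orderOf_eq_one, mul_one]
  have hur : (x * u) ^ r = u ^ r := by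
    rw [hxu.mul_pow, ← hx, pow_orderOf_eq_one, one_mul]
  have hxs1 : x ^ s ≠ 1 := fun h => hrs (((Nat.dvd_prime hs.out).1
    (hx ▸ orderOf_dvd_of_pow_eq_one h)).resolve_left hr.out.ne_one)
  have hur1 : u ^ r ≠ 1 := fun h => hrs (((Nat.dvd_prime hr.out).1
    (hu ▸ orderOf_dvd_of_pow_eq_one h)).resolve_left hs.out.ne_one).symm
  refine key hV hZV hle' hle (fun c hc hc1 => ?_) ?_ hcop
  · obtain ⟨k, rfl⟩ := hc
    simp only at hc1 ⊢
    rw [eq_bot_iff_forall]
    rintro z ⟨hz, hzc⟩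
    have hzc' : Commute z ((x * u) ^ k) := mem_cent.1 hzc
    by_cases h1 : x ^ k = 1
    · have h2 : (x * u) ^ k = u ^ k := by rw [hxu.mul_zpow, h1, one_mul]
      have : z ∈ Z ⊓ centralizer {u} := ⟨hz, mem_cent.2 (commute_of_mem_zpowers hu
        (zpow_mem (mem_zpowers u) k) (by rwa [h2] at hc1) (h2 ▸ hzc'))⟩
      rwa [hfu, mem_bot] at this
    · have h2 : ((x * u) ^ k) ^ s = (x ^ k) ^ s := by
        rw [hxu.mul_zpow, (hxu.zpow_zpow k k).mul_pow, show (u ^ k) ^ s = 1 by
          rw [← zpow_natCast, zpow_comm, zpow_natCast, ← hu, pow_orderOf_eq_one, one_zpow], mul_one]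
      have h3 : (x ^ k) ^ s ≠ 1 := by
        intro h
        have e1 : orderOf (x ^ k) ∣ s := orderOf_dvd_of_pow_eq_one h
        rw [orderOf_eq_prime (p := r) (by
          rw [← zpow_natCast, zpow_comm, zpow_natCast, ← hx, pow_orderOf_eq_one, one_zpow]) h1] at e1
        exact hrs (((Nat.dvd_prime hs.out).1 e1).resolve_left hr.out.ne_one)
      have : z ∈ Z ⊓ centralizer {x} := ⟨hz, mem_cent.2 (commute_of_mem_zpowers hx
        (pow_mem (zpow_mem (mem_zpowers x) k) s) h3 (h2 ▸ hzc'.pow_right s))⟩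
      rwa [hfx, mem_bot] at this
  · rw [eq_bot_iff_forall]
    rintro w ⟨hw, hwc⟩
    have hc : Commute w (x * u) := (mem_centralizer_iff.1 hwc _ (mem_zpowers _)).symm
    exact hfix w hw (commute_of_mem_zpowers hx (pow_mem (mem_zpowers x) s) hxs1 (hxs ▸ hc.pow_right s))
      (commute_of_mem_zpowers hu (pow_mem (mem_zpowers u) r) hur1 (hur ▸ hc.pow_right r))

/-! ### Fixed points of noncyclic abelian groups -/

theorem gen_le [Finite G] {t : ℕ} {E R X : Subgroup G} (hE : IsElem t E) (hc : ¬ IsCyclic E)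
    (hER : E ≤ normalizer (R : Set G)) (hcop : (Nat.card E).Coprime (Nat.card R))
    (h : ∀ g ∈ E, g ≠ 1 → R ⊓ centralizer {g} ≤ X) : R ≤ X := by
  haveI := hE.isMulCommutative
  rw [← Coprime.iSup_centralizer_eq hc hER hcop]
  exact iSup₂_le fun g hg => h g hg.1 hg.2

theorem exists_fix [Finite G] {t : ℕ} {E V : Subgroup G} (hE : IsElem t E) (hc : ¬ IsCyclic E)
    (hEV : E ≤ normalizer (V : Set G)) (hcop : (Nat.card E).Coprime (Nat.card V)) (hV : V ≠ ⊥) :
    ∃ g ∈ E, g ≠ 1 ∧ ∃ w ∈ V, w ≠ 1 ∧ Commute w g := by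
  by_contra hno
  push Not at hno
  refine hV (le_bot_iff.1 (gen_le hE hc hEV hcop fun g hg hg1 => ?_))
  rintro w ⟨hw, hwg⟩
  by_contra hw1
  exact hno g hg hg1 w hw hw1 (mem_cent.1 hwg)

/-! ### Automorphisms of cyclic subgroups -/

section Aut

variable [Finite G]

theorem commute_iff_aut {a : G} (g : normalizer (zpowers a : Set G)) :
    (zpowers a).normalizerMonoidHom g = 1 ↔ Commute (g : G) a := by
  constructor
  · intro h
    have h1 : (g : G) * a * (g : G)⁻¹ = a := congrArg Subtype.val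
      (DFunLike.congr_fun h (⟨a, mem_zpowers a⟩ : zpowers a))
    exact mul_inv_eq_iff_eq_mul.1 h1
  · intro h
    refine MulEquiv.ext fun x => Subtype.ext ?_
    obtain ⟨k, hk⟩ := x.2
    show (g : G) * x * (g : G)⁻¹ = x
    simp only at hk
    rw [← hk, (h.zpow_right k).eq, mul_inv_cancel_right]

theorem isCyclic_mulAut {a : G} {r : ℕ} [hr : Fact r.Prime] (ha : orderOf a = r) :
    IsCyclic (MulAut (zpowers a)) := by
  have hc : Nat.card (zpowers a) = r := by rw [Nat.card_zpowers, ha]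
  have : IsCyclic (ZMod (Nat.card (zpowers a)))ˣ := by rw [hc]; infer_instance
  exact (IsCyclic.mulAutMulEquiv (zpowers a)).isCyclic.2 this

/-- A noncyclic group normalising a subgroup of prime order has a nontrivial element
centralising it. -/
theorem exists_commute_of_not_cyclic {r : ℕ} [Fact r.Prime] {E : Subgroup G}
    (hE : ¬ IsCyclic E) {a : G} (ha : orderOf a = r) (hEa : E ≤ normalizer (zpowers a : Set G)) :
    ∃ g ∈ E, g ≠ 1 ∧ Commute g a := by
  by_contra hno
  push Not at hno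
  haveI := isCyclic_mulAut ha
  refine hE (isCyclic_of_injective
    ((zpowers a).normalizerMonoidHom.comp (Subgroup.inclusion hEa)) ?_)
  refine (injective_iff_map_eq_one _).2 fun g hg => ?_
  by_contra hg1
  exact hno g g.2 (fun h => hg1 (Subtype.ext h)) ((commute_iff_aut _).1 hg)

/-- A prime-order element moving a subgroup of order `r` has order dividing `r - 1`. -/
theorem dvd_sub_one {s r : ℕ} [hs : Fact s.Prime] [hr : Fact r.Prime] {a u : G} (ha : orderOf a = r)
    (hu : orderOf u = s) (hn : u ∈ normalizer (zpowers a : Set G)) (hmove : ¬ Commute u a) :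
    s ∣ r - 1 := by
  have h1 : orderOf ((zpowers a).normalizerMonoidHom ⟨u, hn⟩) = s := by
    refine orderOf_eq_prime ?_ (fun h => hmove ((commute_iff_aut _).1 h))
    rw [← map_pow, show (⟨u, hn⟩ : normalizer (zpowers a : Set G)) ^ s = 1 from
      Subtype.ext (by simp [← hu, pow_orderOf_eq_one]), map_one]
  have h2 := orderOf_dvd_natCard ((zpowers a).normalizerMonoidHom ⟨u, hn⟩)
  rw [h1, Nat.card_congr (IsCyclic.mulAutMulEquiv (zpowers a)).toEquiv, Nat.card_eq_fintype_card,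
    ZMod.card_units_eq_totient, Nat.card_zpowers, ha, Nat.totient_prime hr.out] at h2
  exact h2

theorem commute_of_not_dvd {s r : ℕ} [Fact s.Prime] [Fact r.Prime] {a u : G} (ha : orderOf a = r)
    (hu : orderOf u = s) (hn : u ∈ normalizer (zpowers a : Set G)) (hd : ¬ s ∣ r - 1) :
    Commute u a :=
  by_contra fun h => hd (dvd_sub_one ha hu hn h)

theorem not_dvd_self_sub_one {r : ℕ} (hr : r.Prime) : ¬ r ∣ r - 1 := fun h => by
  have h1 := Nat.le_of_dvd (Nat.sub_pos_of_lt hr.one_lt) h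
  have := hr.two_le
  omega

theorem not_dvd_both {r s : ℕ} (hr : r.Prime) (hs : s.Prime) (h1 : s ∣ r - 1) : ¬ r ∣ s - 1 := by
  intro h2
  have e1 := Nat.le_of_dvd (Nat.sub_pos_of_lt hr.one_lt) h1
  have e2 := Nat.le_of_dvd (Nat.sub_pos_of_lt hs.one_lt) h2
  have := hr.two_le
  have := hs.two_le
  omega

theorem odd_of_dvd {r s : ℕ} (hr : r.Prime) (hs : s.Prime) (h1 : s ∣ r - 1) : r ≠ 2 := by
  rintro rfl
  exact hs.ne_one (Nat.dvd_one.1 h1)

/-- Two elements normalising a cyclic subgroup have commutator centralising it. -/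
theorem commutator_centralizes {B : Subgroup G} [IsCyclic B] {g h : G}
    (hg : g ∈ normalizer (B : Set G)) (hh : h ∈ normalizer (B : Set G)) {b : G} (hb : b ∈ B) :
    Commute ⁅g, h⁆ b := by
  have hcomm : ∀ f f' : MulAut B, f * f' = f' * f := fun f f' =>
    (IsCyclic.mulAutMulEquiv B).injective (by rw [map_mul, map_mul, mul_comm])
  have h1 : B.normalizerMonoidHom ⁅(⟨g, hg⟩ : normalizer (B : Set G)), ⟨h, hh⟩⁆ = 1 := by
    rw [map_commutatorElement, commutatorElement_eq_one_iff_mul_comm]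
    exact hcomm _ _
  have h2 : ⁅g, h⁆ * b * ⁅g, h⁆⁻¹ = b := congrArg Subtype.val
    (DFunLike.congr_fun h1 (⟨b, hb⟩ : B))
  exact mul_inv_eq_iff_eq_mul.1 h2

/-- If `y` moves `a` inside `⟨a⟩` and both normalise a cyclic `B`, then `a` centralises `B`. -/
theorem commute_cyclic {r : ℕ} [Fact r.Prime] {B : Subgroup G} [IsCyclic B] {a y b : G}
    (ha : orderOf a = r) (hya : y ∈ normalizer (zpowers a : Set G)) (hmove : ¬ Commute y a)
    (hy : y ∈ normalizer (B : Set G)) (haB : a ∈ normalizer (B : Set G)) (hb : b ∈ B) :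
    Commute b a := by
  refine commute_of_mem_zpowers ha ?_ ?_ (commutator_centralizes hy haB hb).symm
  · rw [commutatorElement_def]
    exact mul_mem ((mem_normalizer_iff.1 hya a).1 (mem_zpowers a)) (inv_mem (mem_zpowers a))
  · rwa [Ne, commutatorElement_eq_one_iff_mul_comm]

end Aut

/-! ### `r`-groups -/

theorem exists_central [Finite G] {r : ℕ} [hr : Fact r.Prime] {R : Subgroup G} (hR : IsPGroup r R)
    (h : R ≠ ⊥) : ∃ a ∈ R, orderOf a = r ∧ ∀ x ∈ R, Commute a x := by
  haveI := (Subgroup.nontrivial_iff_ne_bot R).2 h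
  haveI := hR.center_nontrivial
  obtain ⟨n, hn0, hn⟩ := (hR.to_subgroup (center R)).nontrivial_iff_card.1 inferInstance
  obtain ⟨⟨⟨a, haR⟩, haz⟩, hao⟩ := exists_prime_orderOf_dvd_card' (G := center R) r
    (hn ▸ dvd_pow_self r hn0.ne')
  rw [← Subgroup.orderOf_coe, ← Subgroup.orderOf_coe] at hao
  exact ⟨a, haR, hao, fun x hx =>
    (congrArg Subtype.val (mem_center_iff.1 haz ⟨x, hx⟩)).symm⟩

theorem exists_orderOf_eq [Finite G] {r : ℕ} [hr : Fact r.Prime] {R : Subgroup G}
    (hR : IsPGroup r R) (h : R ≠ ⊥) : ∃ a ∈ R, orderOf a = r :=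
  let ⟨a, ha, hao, _⟩ := exists_central hR h
  ⟨a, ha, hao⟩

theorem iterate_commutator_mem {R : Type*} [Group R] (c x : R) (n : ℕ) :
    (fun w => ⁅c, w⁆)^[n] x ∈ (⊤ : Subgroup R).lowerCentralSeries n := by
  induction n with
  | zero => exact mem_top _
  | succ n ih =>
    rw [Function.iterate_succ_apply', Subgroup.lowerCentralSeries_succ]
    rw [← commutatorElement_inv, inv_mem_iff]
    exact commutator_mem_commutator ih (mem_top c)

theorem exists_twist_aux {R : Type*} [Group R] [Finite R] {r : ℕ} [hr : Fact r.Prime]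
    (hR : IsPGroup r R) {a : R} (ha : orderOf a = r) (hc : ∀ x, Commute a x)
    (hz : ∀ z : R, orderOf z = r → (∀ x, Commute z x) → z ∈ zpowers a)
    {x : R} (hx : orderOf x = r) (hxa : x ∉ zpowers a) :
    ∃ y c : R, orderOf y = r ∧ y ∉ zpowers a ∧ ⁅c, y⁆ ∈ zpowers a ∧ ⁅c, y⁆ ≠ 1 := by
  classical
  obtain ⟨x, ⟨hx, hxa⟩, hmax⟩ := Set.exists_max_image {x : R | orderOf x = r ∧ x ∉ zpowers a}
    (fun x => Nat.card (centralizer ({x} : Set R))) (Set.toFinite _) ⟨x, hx, hxa⟩
  haveI := hR.isNilpotent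
  set C := centralizer ({x} : Set R) with hC
  have hCtop : C ≠ ⊤ := fun h => hxa (hz x hx fun w => by
    have : w ∈ C := h ▸ mem_top w
    exact (mem_cent.1 this).symm)
  obtain ⟨c, hcN, hcC⟩ := SetLike.exists_of_lt
    (Group.normalizerCondition_of_isNilpotent C (lt_top_iff_ne_top.2 hCtop))
  let W : Set R := {w | w ∈ C ∧ w ^ r = 1 ∧ ∀ v ∈ C, Commute w v}
  have hxW : x ∈ W := ⟨mem_cent.2 (Commute.refl x), hx ▸ pow_orderOf_eq_one x,
    fun v hv => (mem_cent.1 hv).symm⟩
  have hW : ∀ w ∈ W, ⁅c, w⁆ ∈ W := by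
    rintro w ⟨hwC, hwr, hwc⟩
    have h1 : c * w * c⁻¹ ∈ C := (mem_normalizer_iff.1 hcN w).1 hwC
    have h2 : ∀ v ∈ C, Commute (c * w * c⁻¹) v := by
      intro v hv
      have h3 : c⁻¹ * v * c ∈ C := by
        have := (mem_normalizer_iff.1 (inv_mem hcN) v).1 hv
        simpa using this
      have h4 := (hwc _ h3).map (MulAut.conj c).toMonoidHom
      simpa [mul_assoc] using h4
    refine ⟨?_, ?_, ?_⟩ <;> rw [commutatorElement_def]
    · exact mul_mem h1 (inv_mem hwC)
    · rw [(h2 _ (inv_mem hwC)).mul_pow, conj_pow, hwr, inv_pow, hwr]; simp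
    · exact fun v hv => (h2 v hv).mul_left (hwc v hv).inv_left
  have hit : ∀ n, (fun w => ⁅c, w⁆)^[n] x ∈ W := by
    intro n
    induction n with
    | zero => exact hxW
    | succ n ih => rw [Function.iterate_succ_apply']; exact hW _ ih
  have hex : ∃ n, (fun w => ⁅c, w⁆)^[n] x = 1 := by
    obtain ⟨n, hn⟩ := Subgroup.nilpotent_iff_lowerCentralSeries.1 hR.isNilpotent
    exact ⟨n, mem_bot.1 (hn ▸ iterate_commutator_mem c x n)⟩
  have hx1 : x ≠ 1 := fun h => hr.out.ne_one (by rw [← hx, h, orderOf_one])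
  have hcx : ⁅c, x⁆ ≠ 1 := fun h => hcC (mem_cent.2 (commutatorElement_eq_one_iff_mul_comm.1 h))
  have hspec := Nat.find_spec hex
  rcases hm : Nat.find hex with _ | _ | m <;> rw [hm] at hspec
  · exact absurd hspec hx1
  · exact absurd hspec hcx
  have hlt : m + 1 < Nat.find hex := by omega
  have hd : (fun w => ⁅c, w⁆)^[m + 1] x ≠ 1 := Nat.find_min hex hlt
  rw [Function.iterate_succ_apply'] at hspec
  set d := (fun w => ⁅c, w⁆)^[m + 1] x with hdd
  obtain ⟨hdC, hdr, hdc⟩ := hit (m + 1)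
  have hdo : orderOf d = r := orderOf_eq_prime hdr hd
  have hda : d ∈ zpowers a := by
    by_contra hna
    have hlt' : C < centralizer ({d} : Set R) := by
      refine lt_of_le_of_ne (fun v hv => mem_cent.2 (hdc v hv).symm) fun h => hcC ?_
      rw [h]
      exact mem_cent.2 (commutatorElement_eq_one_iff_mul_comm.1 hspec)
    have h5 := hmax d ⟨hdo, hna⟩
    exact absurd (eq_of_le_of_card_ge hlt'.le h5) hlt'.ne
  set y := (fun w => ⁅c, w⁆)^[m] x with hyd
  have hdy : d = ⁅c, y⁆ := Function.iterate_succ_apply' _ m x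
  obtain ⟨hyC, hyr, hyc⟩ := hit m
  have hy1 : y ≠ 1 := fun h => hd (by rw [hdy, h, commutatorElement_one_right])
  refine ⟨y, c, orderOf_eq_prime hyr hy1, fun hya => hd ?_, hdy ▸ hda, hdy ▸ hd⟩
  obtain ⟨k, hk⟩ := hya
  rw [hdy, commutatorElement_eq_one_iff_mul_comm]
  exact (by simpa only [← hk] using ((hc c).symm.zpow_right k) : Commute c y).eq

/-- In an `r`-group with a plane but cyclic `Ω₁` of the centre some `y` has all the `y * a ^ i`
as conjugates, so that it fixes a point in every fixed-point-free module for the centre. -/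
theorem exists_twist [Finite G] {r : ℕ} [hr : Fact r.Prime] {R : Subgroup G} (hR : IsPGroup r R)
    {a : G} (ha : orderOf a = r) (haR : a ∈ R) (hc : ∀ x ∈ R, Commute a x)
    (hz : ∀ z ∈ R, orderOf z = r → (∀ x ∈ R, Commute z x) → z ∈ zpowers a)
    {x : G} (hxR : x ∈ R) (hx : orderOf x = r) (hxa : x ∉ zpowers a) :
    ∃ y ∈ R, orderOf y = r ∧ ∀ V : Subgroup G, R ≤ normalizer (V : Set G) →
      (r.Coprime (Nat.card V)) → V ≠ ⊥ → V ⊓ centralizer {a} = ⊥ →
        ∃ w ∈ V, w ≠ 1 ∧ Commute w y := by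
  have hmem : ∀ z : R, z ∈ zpowers (⟨a, haR⟩ : R) ↔ (z : G) ∈ zpowers a := by
    intro z
    simp only [mem_zpowers_iff]
    refine exists_congr fun k => ?_
    rw [← Subtype.coe_inj, Subgroup.coe_zpow]
  obtain ⟨y, c, hyo, hya, hd, hd1⟩ := exists_twist_aux (R := R) hR (a := ⟨a, haR⟩) (x := ⟨x, hxR⟩)
    (by rw [Subgroup.orderOf_mk]; exact ha) (fun z => Subtype.ext (hc z z.2))
    (fun z hzo hzc => (hmem z).2 (hz z z.2 (by rwa [Subgroup.orderOf_coe])
      fun w hw => congrArg Subtype.val (hzc ⟨w, hw⟩)))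
    (by rw [Subgroup.orderOf_mk]; exact hx) (fun h => hxa ((hmem _).1 h))
  rw [← Subgroup.orderOf_coe] at hyo
  rw [hmem] at hd hya
  have hd1' : ⁅(c : G), (y : G)⁆ ≠ 1 := fun h => hd1 (Subtype.ext h)
  refine ⟨y, y.2, hyo, fun V hRV hcop hV hVa => ?_⟩
  set d := ⁅(c : G), (y : G)⁆ with hdd
  have hd' : d ∈ zpowers a := hd
  have hdc : ∀ z ∈ R, Commute d z := by
    intro z hz'
    obtain ⟨k, hk⟩ := hd'
    simpa only [← hk] using (hc z hz').zpow_left k
  have hPl := isPlane_of_commute ha hyo (hc y y.2) hya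
  have hEV : zpowers a ⊔ zpowers (y : G) ≤ normalizer (V : Set G) :=
    (sup_le (zpowers_le.2 haR) (zpowers_le.2 y.2)).trans hRV
  obtain ⟨g, hg, hg1, w, hw, hw1, hwg⟩ := exists_fix hPl.toIsElem hPl.not_isCyclic hEV
    (by rw [hPl.card]; exact hcop.pow_left 2) hV
  obtain ⟨_, ⟨j, rfl⟩, _, ⟨k, rfl⟩, rfl⟩ :
      g ∈ (zpowers a : Set G) * (zpowers (y : G) : Set G) := by
    rw [← Subgroup.coe_mul_of_right_le_normalizer_left _ _
      (zpowers_le.2 (mem_normalizer_zpowers_self_of_commute (hc y y.2).symm))]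
    exact hg
  simp only at hg1 hwg
  have hnot : ∀ i : ℤ, a ^ i ≠ 1 → ¬ Commute w (a ^ i) := fun i hi hcom => hw1 (mem_bot.1
    (hVa ▸ (⟨hw, mem_cent.2 (commute_of_mem_zpowers ha ⟨i, rfl⟩ hi hcom)⟩ :
      w ∈ V ⊓ centralizer {a})))
  have hyk : (y : G) ^ k ≠ 1 := fun h => by
    rw [h, mul_one] at hg1 hwg
    exact hnot j hg1 hwg
  obtain ⟨l, hl⟩ : ∃ l : ℤ, d ^ l = a ^ j := by
    have : a ∈ zpowers d := by rw [zpowers_eq_of_mem ha hd' hd1']; exact mem_zpowers a
    obtain ⟨i, hi⟩ := this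
    simp only at hi
    exact ⟨i * j, by rw [zpow_mul, hi]⟩
  have hk0 : ((k : ℤ) : ZMod r) ≠ 0 := fun h => hyk (by
    rw [ZMod.intCast_zmod_eq_zero_iff_dvd] at h
    rw [← orderOf_dvd_iff_zpow_eq_one, hyo]
    exact h)
  have hdo : orderOf d = r := by
    rw [← Nat.card_zpowers, zpowers_eq_of_mem ha hd' hd1', Nat.card_zpowers, ha]
  set n : ℕ := ((l : ZMod r) * ((k : ZMod r))⁻¹).val with hn
  have hdn : (d ^ n) ^ k = a ^ j := by
    rw [← hl, ← zpow_natCast, ← zpow_mul, zpow_eq_zpow_iff_modEq, hdo,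
      ← ZMod.intCast_eq_intCast_iff]
    push_cast
    rw [hn, ZMod.natCast_zmod_val, mul_assoc, inv_mul_cancel₀ hk0, mul_one]
  have hconj : ∀ m : ℕ, (c : G) ^ m * y * ((c : G) ^ m)⁻¹ = d ^ m * y := by
    intro m
    induction m with
    | zero => simp
    | succ m ih =>
      have hcd : (c : G) * d ^ m = d ^ m * c := ((hdc c c.2).pow_left m).eq.symm
      calc (c : G) ^ (m + 1) * y * ((c : G) ^ (m + 1))⁻¹
          = c * ((c : G) ^ m * y * ((c : G) ^ m)⁻¹) * (c : G)⁻¹ := by rw [pow_succ']; group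
        _ = c * d ^ m * y * (c : G)⁻¹ := by rw [ih]; group
        _ = d ^ m * d * y := by rw [hcd, hdd, commutatorElement_def]; group
        _ = d ^ (m + 1) * y := by rw [pow_succ]
  have hcon : (c : G) ^ n * (y : G) ^ k * ((c : G) ^ n)⁻¹ = a ^ j * (y : G) ^ k := by
    rw [← conj_zpow, hconj, ((hdc y y.2).pow_left n).mul_zpow, hdn]
  set e := (c : G) ^ n with he
  have heR : e ∈ R := pow_mem c.2 n
  refine ⟨e⁻¹ * w * e, ?_, ?_, ?_⟩
  · simpa using (mem_normalizer_iff.1 (hRV (inv_mem heR)) w).1 hw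
  · intro h
    exact hw1 (by simpa [mul_assoc] using congrArg (fun z => e * z * e⁻¹) h)
  · refine commute_of_mem_zpowers hyo ⟨k, rfl⟩ hyk ?_
    have h1 := hwg.map (MulAut.conj e⁻¹).toMonoidHom
    rw [← hcon] at h1
    simpa [mul_assoc] using h1

/-- If a `t`-group has no plane all of whose elements are fixed-point-free, its subgroups of
order `t` coincide. -/
theorem unique_of_fpf [Finite G] {t : ℕ} [ht : Fact t.Prime] {R V : Subgroup G} (hR : IsPGroup t R)
    (hRV : R ≤ normalizer (V : Set G)) (hcop : t.Coprime (Nat.card V)) (hV : V ≠ ⊥)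
    (hfpf : ∀ x ∈ R, orderOf x = t → V ⊓ centralizer {x} = ⊥) {x y : G} (hx : x ∈ R)
    (hy : y ∈ R) (hxo : orderOf x = t) (hyo : orderOf y = t) : y ∈ zpowers x := by
  have hR1 : R ≠ ⊥ := by
    rintro rfl
    rw [mem_bot.1 hx, orderOf_one] at hxo
    exact ht.out.ne_one hxo.symm
  obtain ⟨a, ha, hao, hac⟩ := exists_central hR hR1
  have key : ∀ z ∈ R, orderOf z = t → z ∈ zpowers a := by
    intro z hz hzo
    by_contra hnot
    have hPl := isPlane_of_commute hao hzo (hac z hz) hnot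
    have hle : zpowers a ⊔ zpowers z ≤ R := sup_le (zpowers_le.2 ha) (zpowers_le.2 hz)
    obtain ⟨g, hg, hg1, w, hw, hw1, hwg⟩ := exists_fix hPl.toIsElem hPl.not_isCyclic
      (hle.trans hRV) (by rw [hPl.card]; exact hcop.pow_left 2) hV
    exact hw1 (mem_bot.1 ((hfpf g (hle hg) (hPl.orderOf_eq hg hg1)) ▸
      (⟨hw, mem_cent.2 hwg⟩ : w ∈ V ⊓ centralizer {g})))
  have hx1 : x ≠ 1 := fun h => ht.out.ne_one (by rw [← hxo, h, orderOf_one])
  rw [zpowers_eq_of_mem hao (key x hx hxo) hx1]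
  exact key y hy hyo

/-- An element commuting with the only subgroup of order `t` of an abelian `t`-group centralises it. -/
theorem centralizes_of_unique [Finite G] {t : ℕ} [ht : Fact t.Prime] {R : Subgroup G}
    (hR : IsPGroup t R) (hcomm : ∀ x ∈ R, ∀ y ∈ R, Commute x y) {a u : G}
    (huniq : ∀ x ∈ R, orderOf x = t → x ∈ zpowers a) (hua : Commute u a)
    (hu : u ∈ normalizer (R : Set G)) (hcop : (orderOf u).Coprime (Nat.card R)) :
    ∀ x ∈ R, Commute u x := by
  haveI : IsMulCommutative R := ⟨⟨fun a b => Subtype.ext (hcomm a a.2 b b.2)⟩⟩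
  have h := Coprime.le_centralizer_of_prime_order (A := zpowers u) (V := R) (zpowers_le.2 hu)
    (by rwa [Nat.card_zpowers]) (fun v hv hvp b hb => ?_)
  · exact fun x hx => (mem_centralizer_iff.1 (h (mem_zpowers u)) x hx).symm
  · obtain ⟨k, hk⟩ := IsPGroup.iff_orderOf.1 hR ⟨v, hv⟩
    rw [Subgroup.orderOf_mk] at hk
    have hvt : orderOf v = t := by
      rw [hk] at hvp ⊢
      rcases k with _ | _ | k
      · exact absurd hvp (by simp [Nat.not_prime_one])
      · rw [pow_one]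
      · exact absurd hvp (Nat.Prime.not_prime_pow (by omega))
    obtain ⟨i, rfl⟩ := hb
    obtain ⟨j, rfl⟩ := huniq v hv hvt
    exact (hua.zpow_zpow i j).eq

/-- A subgroup of order prime to `π`' normalised by a Hall `π`-subgroup lies in it. -/
theorem le_of_normalized [Finite G] {π : Set ℕ} {M X : Subgroup G} (hM : Cfsg.IsPiHall π M)
    (hn : M ≤ normalizer (X : Set G)) (hX : ∀ p : ℕ, p.Prime → p ∣ Nat.card X → p ∈ π) : X ≤ M := by
  set N := normalizer (X : Set G)
  have h1 := Hall.card_sup_dvd (G := N) (M.subgroupOf N) (X.subgroupOf N)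
  rw [← Subgroup.subgroupOf_sup hn le_normalizer] at h1
  rw [Nat.card_congr (subgroupOfEquivOfLe (sup_le hn le_normalizer)).toEquiv,
    Nat.card_congr (subgroupOfEquivOfLe hn).toEquiv,
    Nat.card_congr (subgroupOfEquivOfLe (le_normalizer : X ≤ N)).toEquiv] at h1
  have h2 := Hall.isPiHall_eq_of_le hM (M := M ⊔ X) (fun p hp hd =>
    ((Nat.Prime.dvd_mul hp).1 (hd.trans h1)).elim (hM.1 p hp) (hX p hp)) le_sup_left
  exact le_sup_right.trans h2.ge

end Cfsg.Agent.Lib.PrimeGraph.NoTriple
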