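import Cfsg.Agent.Lib.PrimeGraph.NoTriple.Ctx
import Cfsg.Agent.Lib.OddTau.Basic
import Cfsg.Agent.Lib.KegelWielandt.Components

/-!
The case of one normal elementary Sylow subgroup with a faithful complement.
-/

set_option autoImplicit false
set_option linter.style.haveILetI false

namespace Cfsg.Agent.Lib.PrimeGraph.NoTriple

open Subgroup
open scoped Pointwise

variable {G : Type*} [Group G]

/-- the configuration -/
structure OneNormal (σ : Finset ℕ) (p q r s : ℕ) (P K : Subgroup G) : Prop where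
  ctx : Ctx σ G
  hp : p ∈ σ
  hq : q ∈ σ
  hr : r ∈ σ
  hs : s ∈ σ
  hpq : p ≠ q
  hpr : p ≠ r
  hps : p ≠ s
  hqr : q ≠ r
  hqs : q ≠ s
  hrs : r ≠ s
  cases : ∀ t ∈ σ, t = p ∨ t = q ∨ t = r ∨ t = s
  nP : P.Normal
  eP : IsElem p P
  P1 : P ≠ ⊥
  irr : ∀ V : Subgroup G, V ≤ P → K ≤ normalizer (V : Set G) → V = ⊥ ∨ V = P
  faith : ∀ g ∈ K, (∀ w ∈ P, Commute g w) → g = 1
  hall : Cfsg.IsPiHall {t : ℕ | t ≠ p} K

variable {σ : Finset ℕ} {p q r s : ℕ} {P K M E : Subgroup G} {e : G}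

theorem OneNormal.swapRS (T : OneNormal σ p q r s P K) : OneNormal σ p q s r P K :=
  { T with
    hr := T.hs, hs := T.hr, hpr := T.hps, hps := T.hpr, hqr := T.hqs, hqs := T.hqr
    hrs := T.hrs.symm
    cases := fun t ht => (T.cases t ht).imp id (Or.imp id Or.symm) }

theorem OneNormal.le_normalizer (T : OneNormal σ p q r s P K) (X : Subgroup G) :
    X ≤ normalizer (P : Set G) := by
  haveI := T.nP
  rw [Subgroup.normalizer_eq_top]
  exact le_top

theorem OneNormal.mem_normalizer (T : OneNormal σ p q r s P K) (x : G) :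
    x ∈ normalizer (P : Set G) := T.le_normalizer ⊤ (mem_top x)

theorem OneNormal.orderP (T : OneNormal σ p q r s P K) {w : G} (hw : w ∈ P) (hw1 : w ≠ 1) :
    orderOf w = p :=
  haveI := Fact.mk (T.ctx.prime p T.hp)
  T.eP.orderOf_eq hw hw1

theorem OneNormal.coprime (T : OneNormal σ p q r s P K) [Finite G] {t : ℕ} (ht : t ∈ σ)
    (htp : p ≠ t) {X : Subgroup G} (hX : IsPGroup t X) : (Nat.card X).Coprime (Nat.card P) :=
  coprime_of_isPGroup (T.ctx.prime t ht) (T.ctx.prime p T.hp) htp.symm hX T.eP.isPGroup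

theorem coprime_zpowers [Finite G] {t l : ℕ} (ht : t.Prime) (hl : l.Prime) (hne : t ≠ l) {z : G}
    (hz : orderOf z = t) {X : Subgroup G} (hX : IsPGroup l X) : t.Coprime (Nat.card X) := by
  have := coprime_of_isPGroup ht hl hne (isPGroup_zpowers hz) hX
  rwa [Nat.card_zpowers, hz] at this

theorem OneNormal.fix_fpf (T : OneNormal σ p q r s P K) [Finite G] {t : ℕ} (ht : t ∈ σ)
    (htp : p ≠ t) {F : Subgroup G} (hF : IsElem t F) (hnc : ¬ IsCyclic F) :
    ∃ g ∈ F, orderOf g = t ∧ ∃ w ∈ P, w ≠ 1 ∧ Commute w g := by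
  haveI := Fact.mk (T.ctx.prime t ht)
  obtain ⟨g, hg, hg1, h⟩ := exists_fix hF hnc (T.le_normalizer F) (T.coprime ht htp hF.isPGroup) T.P1
  exact ⟨g, hg, hF.orderOf_eq hg hg1, h⟩

theorem OneNormal.fpf_normal (T : OneNormal σ p q r s P K) [Finite G] {a : G} (haK : a ∈ K)
    (ha1 : a ≠ 1) (hKa : K ≤ normalizer (zpowers a : Set G)) : P ⊓ centralizer {a} = ⊥ := by
  refine (T.irr _ inf_le_left ?_).resolve_right fun h => ha1 (T.faith a haK fun w hw => ?_)
  · rw [← centralizer_zpowers]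
    exact fun k hk => normal_inf_centralizer_le P (zpowers a) ⟨T.mem_normalizer k, hKa hk⟩
  · exact (mem_cent.1 (h.symm ▸ hw : w ∈ P ⊓ centralizer {a}).2).symm

/-- the lemma on moved lines -/
theorem OneNormal.move (T : OneNormal σ p q r s P K) [Finite G] {t t' t'' : ℕ} (ht : t ∈ σ)
    (ht' : t' ∈ σ) (ht'' : t'' ∈ σ) (hpt : p ≠ t) (hpt' : p ≠ t') (hpt'' : p ≠ t'') (hne : t ≠ t'')
    {a u x : G} (ha : orderOf a = t') (hu : orderOf u = t) (hx : orderOf x = t'')
    (hua : u ∈ normalizer (zpowers a : Set G)) (hmove : ¬ Commute u a) (hxa : Commute x a)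
    (hxu : Commute x u) (hPa : P ⊓ centralizer {a} = ⊥) : P ⊓ centralizer {x} = ⊥ := by
  haveI := Fact.mk (T.ctx.prime t ht)
  haveI := Fact.mk (T.ctx.prime t' ht')
  have hcen : zpowers a ≤ centralizer ((P ⊓ centralizer {x} : Subgroup G) : Set G) := by
    refine key_one (fun v hv v' hv' => T.eP.comm v hv.1 v' hv'.1) hu
      (zpowers_le.2 (mem_normalizer_inf_cent (T.mem_normalizer a) hxa.symm))
      (mem_normalizer_inf_cent (T.mem_normalizer u) hxu.symm) hua
      (zpowers_inf_cent_eq_bot ha fun h => hmove h.symm) (inf_cent_eq_bot_iff.2 ?_)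
      ((T.coprime ht' hpt' (isPGroup_zpowers ha)).coprime_dvd_right (card_dvd_of_le inf_le_left))
    intro w hw hwu
    by_contra hw1
    exact T.ctx.no3 T.hp ht'' ht hpt'' hne.symm hpt (T.orderP hw.1 hw1) hx hu (mem_cent.1 hw.2) hxu hwu
  rw [eq_bot_iff_forall]
  intro w hw
  exact inf_cent_eq_bot_iff.1 hPa w hw.1
    (mem_centralizer_iff.1 (hcen (mem_zpowers a)) w hw)

theorem OneNormal.primesM (T : OneNormal σ p q r s P K) [Finite G]
    (hM : Cfsg.IsPiHall ({r, s} : Set ℕ) M) (t : ℕ) (ht : t.Prime) (hd : t ∣ Nat.card M) :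
    t = r ∨ t = s := by
  simpa using hM.1 t ht hd

/-- data of the case of an elementary noncyclic normal subgroup of the complement -/
structure CaseA (σ : Finset ℕ) (p q r s : ℕ) (P K M E : Subgroup G) : Prop where
  one : OneNormal σ p q r s P K
  hEK : E ≤ K
  eE : IsElem q E
  ncE : ¬ IsCyclic E
  hKE : K ≤ normalizer (E : Set G)
  hMK : M ≤ K
  hM : Cfsg.IsPiHall ({r, s} : Set ℕ) M

theorem CaseA.swapRS (A : CaseA σ p q r s P K M E) : CaseA σ p q s r P K M E :=
  { A with one := A.one.swapRS, hM := Set.pair_comm r s ▸ A.hM }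

theorem CaseA.exists_mem (A : CaseA σ p q r s P K M E) [Finite G] :
    ∃ e ∈ E, orderOf e = q := by
  haveI := Fact.mk (A.one.ctx.prime q A.one.hq)
  have hne : E ≠ ⊥ := by
    intro h
    exact A.ncE (by rw [h]; infer_instance)
  obtain ⟨e, he, he1⟩ := exists_ne_one_of_ne_bot hne
  exact ⟨e, he, A.eE.orderOf_eq he he1⟩

theorem CaseA.orderE (A : CaseA σ p q r s P K M E) {e : G} (he : e ∈ E) (he1 : e ≠ 1) :
    orderOf e = q :=
  haveI := Fact.mk (A.one.ctx.prime q A.one.hq)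
  A.eE.orderOf_eq he he1

/-- an element of order `r` centralising `E` fixes no point of `P` -/
theorem CaseA.fpfC (A : CaseA σ p q r s P K M E) [Finite G] {g : G} (hg : orderOf g = r)
    (hgE : ∀ e ∈ E, Commute e g) : P ⊓ centralizer {g} = ⊥ := by
  by_contra hne
  obtain ⟨e, he, he1, w, hw, hw1, hwe⟩ := exists_fix (V := P ⊓ centralizer {g}) A.eE A.ncE
    (fun e he => mem_normalizer_inf_cent (A.one.mem_normalizer e) (hgE e he))
    ((A.one.coprime A.one.hq A.one.hpq A.eE.isPGroup).coprime_dvd_right (card_dvd_of_le inf_le_left))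
    hne
  exact A.one.ctx.no3 A.one.hp A.one.hq A.one.hr A.one.hpq A.one.hqr A.one.hpr
    (A.one.orderP hw.1 hw1) (A.orderE he he1) hg hwe (hgE e he) (mem_cent.1 hw.2)

/-- commuting elements of order `r` centralising `E` generate the same subgroup -/
theorem CaseA.uniqueC (A : CaseA σ p q r s P K M E) [Finite G] {x y : G} (hx : orderOf x = r)
    (hy : orderOf y = r) (hxE : ∀ e ∈ E, Commute e x) (hyE : ∀ e ∈ E, Commute e y)
    (hxy : Commute x y) : y ∈ zpowers x := by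
  by_contra hnot
  haveI := Fact.mk (A.one.ctx.prime r A.one.hr)
  have hPl := isPlane_of_commute hx hy hxy hnot
  obtain ⟨g, hg, hgo, w, hw, hw1, hwg⟩ :=
    A.one.fix_fpf A.one.hr A.one.hpr hPl.toIsElem hPl.not_isCyclic
  have hgE : ∀ e ∈ E, Commute e g := by
    intro e he
    have hle : zpowers x ⊔ zpowers y ≤ centralizer ({e} : Set G) :=
      sup_le (zpowers_le.2 (mem_cent.2 (hxE e he).symm)) (zpowers_le.2 (mem_cent.2 (hyE e he).symm))
    exact (mem_cent.1 (hle hg)).symm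
  exact hw1 (inf_cent_eq_bot_iff.1 (A.fpfC hgo hgE) w hw hwg)

theorem CaseA.centralizes (A : CaseA σ p q r s P K M E) [Finite G] {x : G} (hxK : x ∈ K)
    (hx : orderOf x = r) (hPx : P ⊓ centralizer {x} = ⊥) : ∀ e ∈ E, Commute e x := fun e he => by
  haveI := Fact.mk (A.one.ctx.prime r A.one.hr)
  exact commute_of_key A.eE.comm A.one.eP.comm hx (A.hKE hxK) (A.one.le_normalizer E)
    (A.one.mem_normalizer x) hPx
    (coprime_zpowers (A.one.ctx.prime r A.one.hr) (A.one.ctx.prime q A.one.hq) A.one.hqr.symm hx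
      A.eE.isPGroup)
    (A.one.coprime A.one.hq A.one.hpq A.eE.isPGroup) (fun a ha => A.one.faith a (A.hEK ha)) he

/-- of two commuting elements of orders `r`, `s` one fixes a point of `E` only if it centralises it -/
theorem CaseA.half (A : CaseA σ p q r s P K M E) [Finite G] {x u : G} (hxK : x ∈ K) (huK : u ∈ K)
    (hx : orderOf x = r) (hu : orderOf u = s) (hxu : Commute x u)
    (hne : E ⊓ centralizer {x} ≠ ⊥) :
    (∀ e ∈ E, Commute e x) ∧ E ⊓ centralizer {u} = ⊥ := by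
  haveI := Fact.mk (A.one.ctx.prime s A.one.hs)
  set E1 := E ⊓ centralizer {x} with hE1
  obtain ⟨e, heE1, he1⟩ := exists_ne_one_of_ne_bot hne
  have hfu : E1 ⊓ centralizer {u} = ⊥ := inf_cent_eq_bot_iff.2 fun f hf hfu => by_contra fun hf1 =>
    A.one.ctx.no3 A.one.hq A.one.hr A.one.hs A.one.hqr A.one.hrs A.one.hqs (A.orderE hf.1 hf1) hx hu
      (mem_cent.1 hf.2) hxu hfu
  have hfix : (P ⊓ centralizer {x}) ⊓ centralizer {u} = ⊥ :=
    inf_cent_eq_bot_iff.2 fun w hw hwu => by_contra fun hw1 =>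
      A.one.ctx.no3 A.one.hp A.one.hr A.one.hs A.one.hpr A.one.hrs A.one.hps
        (A.one.orderP hw.1 hw1) hx hu (mem_cent.1 hw.2) hxu hwu
  have hcen : E1 ≤ centralizer ((P ⊓ centralizer {x} : Subgroup G) : Set G) :=
    key_one (fun v hv v' hv' => A.one.eP.comm v hv.1 v' hv'.1) hu
      (fun f hf => mem_normalizer_inf_cent (A.one.mem_normalizer f) (mem_cent.1 hf.2))
      (mem_normalizer_inf_cent (A.one.mem_normalizer u) hxu.symm)
      (mem_normalizer_inf_cent (A.hKE huK) hxu.symm) hfu hfix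
      ((coprime_of_isPGroup (A.one.ctx.prime q A.one.hq) (A.one.ctx.prime p A.one.hp)
        A.one.hpq.symm (A.eE.mono inf_le_left).isPGroup A.one.eP.isPGroup).coprime_dvd_right
          (card_dvd_of_le inf_le_left))
  have hPx : P ⊓ centralizer {x} = ⊥ := by
    rw [eq_bot_iff_forall]
    intro w hw
    by_contra hw1
    exact A.one.ctx.no3 A.one.hp A.one.hr A.one.hq A.one.hpr A.one.hqr.symm A.one.hpq
      (A.one.orderP hw.1 hw1) hx (A.orderE heE1.1 he1) (mem_cent.1 hw.2) (mem_cent.1 heE1.2).symm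
      (mem_centralizer_iff.1 (hcen heE1) w hw)
  have hall := A.centralizes hxK hx hPx
  exact ⟨hall, inf_cent_eq_bot_iff.2 fun f hf hfu' => by_contra fun hf1 =>
    A.one.ctx.no3 A.one.hq A.one.hr A.one.hs A.one.hqr A.one.hrs A.one.hqs (A.orderE hf hf1) hx hu
      (hall f hf) hxu hfu'⟩

/-- exactly one of two commuting elements of orders `r`, `s` centralises `E` -/
theorem CaseA.pair2 (A : CaseA σ p q r s P K M E) [Finite G] {x u : G} (hxK : x ∈ K) (huK : u ∈ K)
    (hx : orderOf x = r) (hu : orderOf u = s) (hxu : Commute x u) :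
    ((∀ e ∈ E, Commute e x) ∧ E ⊓ centralizer {u} = ⊥) ∨
      ((∀ e ∈ E, Commute e u) ∧ E ⊓ centralizer {x} = ⊥) := by
  haveI := Fact.mk (A.one.ctx.prime r A.one.hr)
  haveI := Fact.mk (A.one.ctx.prime s A.one.hs)
  by_cases h1 : E ⊓ centralizer {x} = ⊥
  · by_cases h2 : E ⊓ centralizer {u} = ⊥
    · exfalso
      have hcen := key_two A.one.hrs A.one.eP.comm hx hu hxu (A.one.le_normalizer E)
        (A.one.mem_normalizer x) (A.one.mem_normalizer u) (A.hKE hxK) (A.hKE huK) h1 h2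
        (fun w hw hwx hwu => by_contra fun hw1 => A.one.ctx.no3 A.one.hp A.one.hr A.one.hs A.one.hpr
          A.one.hrs A.one.hps (A.one.orderP hw hw1) hx hu hwx hxu hwu)
        (A.one.coprime A.one.hq A.one.hpq A.eE.isPGroup)
      obtain ⟨e, he, heo⟩ := A.exists_mem
      have := A.one.faith e (A.hEK he) fun w hw => (mem_centralizer_iff.1 (hcen he) w hw).symm
      rw [this, orderOf_one] at heo
      exact (A.one.ctx.prime q A.one.hq).ne_one heo.symm
    · exact Or.inr ⟨(A.swapRS.half huK hxK hu hx hxu.symm h2).1, h1⟩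
  · exact Or.inl (A.half hxK huK hx hu hxu h1)

theorem CaseA.false_of_line (A : CaseA σ p q r s P K M E) [Finite G] [Group.IsSolvable G] {a : G}
    (ha : orderOf a = r) (haM : a ∈ M) (haE : ∀ e ∈ E, Commute e a)
    (hMa : M ≤ normalizer (zpowers a : Set G)) : False := by
  have hrp := A.one.ctx.prime r A.one.hr
  have hsp := A.one.ctx.prime s A.one.hs
  haveI := Fact.mk hrp
  haveI := Fact.mk hsp
  obtain ⟨e0, he0, he0o⟩ := A.exists_mem
  have he01 : e0 ≠ 1 := fun h => (A.one.ctx.prime q A.one.hq).ne_one (by rw [← he0o, h, orderOf_one])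
  have hPa := A.fpfC ha haE
  have hnotC : ∀ z ∈ M, orderOf z = s → Commute z a → E ⊓ centralizer {z} = ⊥ := by
    intro z hz hzo hza
    rcases A.pair2 (A.hMK haM) (A.hMK hz) ha hzo hza.symm with h | h
    · exact h.2
    · exact absurd (inf_cent_eq_bot_iff.1 h.2 e0 he0 (haE e0 he0)) he01
  obtain ⟨Fs₀, hFs₀⟩ := A.one.ctx.plane s A.one.hs
  obtain ⟨F, hFM, hF⟩ := plane_into A.hM hsp (Or.inr rfl) hFs₀
  obtain ⟨y, hy, hy1, hya⟩ :=
    exists_commute_of_not_cyclic hF.not_isCyclic ha (hFM.trans hMa)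
  have hyo := hF.toIsElem.orderOf_eq hy hy1
  have hcopFE : (Nat.card F).Coprime (Nat.card E) := coprime_of_isPGroup hsp
    (A.one.ctx.prime q A.one.hq) A.one.hqs.symm hF.toIsElem.isPGroup A.eE.isPGroup
  obtain ⟨z, hz, hz1, f, hf, hf1, hfz⟩ := exists_fix hF.toIsElem hF.not_isCyclic
    ((hFM.trans A.hMK).trans A.hKE) hcopFE (fun h => he01 (by rwa [h, mem_bot] at he0))
  have hza : ¬ Commute z a := fun h => hf1 (inf_cent_eq_bot_iff.1
    (hnotC z (hFM hz) (hF.toIsElem.orderOf_eq hz hz1) h) f hf hfz)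
  have hsr : s ∣ r - 1 := dvd_sub_one ha (hF.toIsElem.orderOf_eq hz hz1) (hMa (hFM hz)) hza
  have hrcomm : ∀ x ∈ M, orderOf x = r → Commute x a := fun x hx hxo =>
    commute_of_not_dvd ha hxo (hMa hx) (not_dvd_self_sub_one hrp)
  have hR : ∀ x ∈ M, orderOf x = r → ∀ t ∈ M, orderOf t = s → Commute t a → Commute x t →
      x ∈ zpowers a := by
    intro x hx hxo t ht hto hta hxt
    rcases A.pair2 (A.hMK hx) (A.hMK ht) hxo hto hxt with h | h
    · exact A.uniqueC ha hxo haE h.1 (hrcomm x hx hxo).symm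
    · exact absurd (inf_cent_eq_bot_iff.1 (hnotC t ht hto hta) e0 he0 (h.1 e0 he0)) he01
  set S1 := Cfsg.pCoreOf s M with hS1
  have hS1M : S1 ≤ M := CharP.pCoreOf_le s M
  have hS1n : M ≤ normalizer (S1 : Set G) := CharP.le_normalizer_pCoreOf s M
  have hS1a : ∀ t ∈ S1, Commute t a := fun t ht => commute_of_normalize (hS1M.trans hMa)
    ((zpowers_le.2 haM).trans hS1n) (Subgroup.inf_eq_bot_of_coprime (coprime_of_isPGroup hsp hrp
      A.one.hrs.symm (CharP.isPGroup_pCoreOf s M) (isPGroup_zpowers ha))) ht (mem_zpowers a)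
  have hS : S1 = ⊥ := by
    by_contra hne
    obtain ⟨N, hN, hN1, hMN, t, ht, htd, hNe⟩ := exists_elem_le hS1M hS1n hne
    obtain ⟨k, hk⟩ := IsPGroup.iff_card.1 (CharP.isPGroup_pCoreOf s M)
    have hts : t = s := (Nat.prime_dvd_prime_iff_eq ht hsp).1 (ht.dvd_of_dvd_pow (hk ▸ htd))
    subst hts
    by_cases hc : IsCyclic N
    · obtain ⟨t0, ht0, ht01⟩ := exists_ne_one_of_ne_bot hN1
      have ht0o := hNe.orderOf_eq ht0 ht01
      have hline : zpowers t0 = N := le_antisymm (zpowers_le.2 ht0) fun w hw =>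
        hNe.mem_zpowers_of_isCyclic hc ht0 ht01 hw
      obtain ⟨Fr₀, hFr₀⟩ := A.one.ctx.plane r A.one.hr
      obtain ⟨Fr, hFrM, hFr⟩ := plane_into A.hM hrp (Or.inl rfl) hFr₀
      refine hFr.not_isCyclic (isCyclic_of_le (show Fr ≤ zpowers a from fun x hx => ?_))
      rcases eq_or_ne x 1 with rfl | hx1
      · exact one_mem _
      have hxo := hFr.toIsElem.orderOf_eq hx hx1
      exact hR x (hFrM hx) hxo t0 (hS1M (hN ht0)) ht0o (hS1a t0 (hN ht0))
        (commute_of_not_dvd ht0o hxo (hline ▸ hMN (hFrM hx)) (not_dvd_both hrp hsp hsr))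
    · obtain ⟨g, hg, hg1, f, hf, hf1, hfg⟩ := exists_fix hNe hc
        (((hN.trans hS1M).trans A.hMK).trans A.hKE)
        (coprime_of_isPGroup hsp (A.one.ctx.prime q A.one.hq) A.one.hqs.symm hNe.isPGroup
          A.eE.isPGroup) (fun h => he01 (by rwa [h, mem_bot] at he0))
      exact hf1 (inf_cent_eq_bot_iff.1
        (hnotC g (hS1M (hN hg)) (hNe.orderOf_eq hg hg1) (hS1a g (hN hg))) f hf hfg)
  set R1 := Cfsg.pCoreOf r M with hR1
  have hR1r : IsPGroup r R1 := CharP.isPGroup_pCoreOf r M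
  have hR1M : R1 ≤ M := CharP.pCoreOf_le r M
  refine not_centralize_core (r := r) (A.one.primesM A.hM) hS (hFM hy) hyo fun x hx => ?_
  have hle : R1 ≤ centralizer ({y} : Set G) := by
    refine gen_le hF.toIsElem hF.not_isCyclic (hFM.trans (CharP.le_normalizer_pCoreOf r M))
      (coprime_of_isPGroup hsp hrp A.one.hrs.symm hF.toIsElem.isPGroup hR1r) fun g hg hg1 => ?_
    by_cases hga : Commute g a
    · have hgy : g ∈ zpowers y := by
        by_contra hnot
        have hgen := hF.sup_eq hy hg hy1 hnot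
        have hFa : F ≤ centralizer ({a} : Set G) := by
          rw [← hgen]
          exact sup_le (zpowers_le.2 (mem_cent.2 hya)) (zpowers_le.2 (mem_cent.2 hga))
        exact hza (mem_cent.1 (hFa hz))
      rintro w ⟨-, hw⟩
      exact mem_cent.2 (commute_of_mem_zpowers hyo hgy hg1 (mem_cent.1 hw))
    · refine le_of_eq_of_le ?_ bot_le
      by_contra hne
      obtain ⟨x, hx, hxo⟩ := exists_orderOf_eq (hR1r.to_le inf_le_left) hne
      have hxM := hR1M hx.1
      have hgo := hF.toIsElem.orderOf_eq hg hg1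
      have hxg := mem_cent.1 hx.2
      have hPx := A.one.move A.one.hs A.one.hr A.one.hr A.one.hps A.one.hpr A.one.hpr A.one.hrs.symm
        ha hgo hxo (hMa (hFM hg)) hga (hrcomm x hxM hxo) hxg hPa
      have hxa := A.uniqueC ha hxo haE (A.centralizes (A.hMK hxM) hxo hPx) (hrcomm x hxM hxo).symm
      exact hga (commute_of_mem_zpowers ha hxa
        (fun h => hrp.ne_one (by rw [← hxo, h, orderOf_one])) hxg.symm)
  exact (mem_cent.1 (hle hx)).symm

theorem CaseA.false (A : CaseA σ p q r s P K M E) [Finite G] [Group.IsSolvable G] : False := by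
  have hrp := A.one.ctx.prime r A.one.hr
  have hsp := A.one.ctx.prime s A.one.hs
  obtain ⟨x₀, u₀, hx₀, hu₀, hxu₀⟩ := A.one.ctx.pair r A.one.hr s A.one.hs A.one.hrs
  obtain ⟨x, hx, u, hu, hxo, huo, hxu⟩ :=
    pair_into A.hM hrp hsp A.one.hrs (Or.inl rfl) (Or.inr rfl) hx₀ hu₀ hxu₀
  set M0 := M ⊓ centralizer (E : Set G) with hM0
  have hMM0 : M ≤ normalizer (M0 : Set G) := fun m hm =>
    normal_inf_centralizer_le M E ⟨Subgroup.le_normalizer hm, A.hKE (A.hMK hm)⟩
  have hM01 : M0 ≠ ⊥ := by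
    intro h
    have key : ∀ z ∈ M, z ≠ 1 → ¬ ∀ e ∈ E, Commute e z := fun z hz hz1 hc => hz1 (by
      have : z ∈ M0 := ⟨hz, mem_centralizer_iff.2 fun e he => hc e he⟩
      rwa [h, mem_bot] at this)
    rcases A.pair2 (A.hMK hx) (A.hMK hu) hxo huo hxu with h' | h'
    · exact key x hx (fun h1 => hrp.ne_one (by rw [← hxo, h1, orderOf_one])) h'.1
    · exact key u hu (fun h1 => hsp.ne_one (by rw [← huo, h1, orderOf_one])) h'.1
  obtain ⟨N, hN, hN1, hMN, t, ht, htd, hNe⟩ := exists_elem_le inf_le_left hMM0 hM01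
  have key : ∀ {r s : ℕ}, CaseA σ p q r s P K M E → IsElem r N → False := by
    intro r s A hNe
    haveI := Fact.mk (A.one.ctx.prime r A.one.hr)
    have hNC : ∀ z ∈ N, ∀ e ∈ E, Commute e z := fun z hz e he =>
      mem_centralizer_iff.1 (hN hz).2 e he
    by_cases hc : IsCyclic N
    · obtain ⟨a, ha, ha1⟩ := exists_ne_one_of_ne_bot hN1
      have hline : zpowers a = N := le_antisymm (zpowers_le.2 ha) fun w hw =>
        hNe.mem_zpowers_of_isCyclic hc ha ha1 hw
      exact A.false_of_line (hNe.orderOf_eq ha ha1) (hN ha).1 (hNC a ha) (hline ▸ hMN)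
    · obtain ⟨g, hg, hgo, w, hw, hw1, hwg⟩ := A.one.fix_fpf A.one.hr A.one.hpr hNe hc
      exact hw1 (inf_cent_eq_bot_iff.1 (A.fpfC hgo (hNC g hg)) w hw hwg)
  rcases A.one.primesM A.hM t ht (htd.trans (card_dvd_of_le inf_le_left)) with h | h <;> subst h
  · exact key A hNe
  · exact key A.swapRS hNe

/-- data of the case of cyclic `Ω₁` of all the centres of cores -/
structure CaseB (σ : Finset ℕ) (p q r s : ℕ) (P K M : Subgroup G) (e : G) : Prop where
  one : OneNormal σ p q r s P K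
  he : orderOf e = q
  heW : e ∈ Cfsg.pCoreOf q K
  hec : ∀ w ∈ Cfsg.pCoreOf q K, Commute e w
  hKe : K ≤ normalizer (zpowers e : Set G)
  smallR : ∀ x ∈ Cfsg.pCoreOf r K, ∀ y ∈ Cfsg.pCoreOf r K, orderOf x = r → orderOf y = r →
    y ∈ zpowers x
  smallS : ∀ x ∈ Cfsg.pCoreOf s K, ∀ y ∈ Cfsg.pCoreOf s K, orderOf x = s → orderOf y = s →
    y ∈ zpowers x
  hMK : M ≤ K
  hM : Cfsg.IsPiHall ({r, s} : Set ℕ) M

theorem CaseB.swapRS (B : CaseB σ p q r s P K M e) : CaseB σ p q s r P K M e :=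
  { B with
    one := B.one.swapRS, smallR := B.smallS, smallS := B.smallR
    hM := Set.pair_comm r s ▸ B.hM }

theorem CaseB.heK (B : CaseB σ p q r s P K M e) : e ∈ K := CharP.pCoreOf_le q K B.heW

theorem CaseB.fpf_e (B : CaseB σ p q r s P K M e) [Finite G] : P ⊓ centralizer {e} = ⊥ :=
  B.one.fpf_normal B.heK (fun h => (B.one.ctx.prime q B.one.hq).ne_one (by
    rw [← B.he, h, orderOf_one])) B.hKe

/-- one of two commuting elements of orders `r`, `s` centralises `e` -/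
theorem CaseB.pair (B : CaseB σ p q r s P K M e) [Finite G] {x u : G} (hxK : x ∈ K) (huK : u ∈ K)
    (hx : orderOf x = r) (hu : orderOf u = s) (hxu : Commute x u) :
    Commute x e ∨ Commute u e := by
  haveI := Fact.mk (B.one.ctx.prime r B.one.hr)
  haveI := Fact.mk (B.one.ctx.prime s B.one.hs)
  haveI := Fact.mk (B.one.ctx.prime q B.one.hq)
  by_contra hno
  push Not at hno
  have hcen := key_two B.one.hrs B.one.eP.comm hx hu hxu (B.one.le_normalizer _)
    (B.one.mem_normalizer x) (B.one.mem_normalizer u) (B.hKe hxK) (B.hKe huK)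
    (zpowers_inf_cent_eq_bot B.he fun h => hno.1 h.symm)
    (zpowers_inf_cent_eq_bot B.he fun h => hno.2 h.symm)
    (fun w hw hwx hwu => by_contra fun hw1 => B.one.ctx.no3 B.one.hp B.one.hr B.one.hs B.one.hpr
      B.one.hrs B.one.hps (B.one.orderP hw hw1) hx hu hwx hxu hwu)
    (B.one.coprime B.one.hq B.one.hpq (isPGroup_zpowers B.he))
  obtain ⟨w, hw, hw1⟩ := exists_ne_one_of_ne_bot B.one.P1
  exact hw1 (inf_cent_eq_bot_iff.1 B.fpf_e w hw
    (mem_centralizer_iff.1 (hcen (mem_zpowers e)) w hw))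

/-- no commuting pair of orders `r`, `s` centralises `e` -/
theorem CaseB.not_pair (B : CaseB σ p q r s P K M e) {x u : G} (hx : orderOf x = r)
    (hu : orderOf u = s) (hxu : Commute x u) (hxe : Commute x e) (hue : Commute u e) : False :=
  B.one.ctx.no3 B.one.hq B.one.hr B.one.hs B.one.hqr B.one.hrs B.one.hqs B.he hx hu hxe.symm hxu
    hue.symm

theorem CaseB.core_trivial (B : CaseB σ p q r s P K M e) [Finite G] [Group.IsSolvable G]
    (hne : Cfsg.pCoreOf r M ⊓ centralizer {e} ≠ ⊥) : Cfsg.pCoreOf s M = ⊥ := by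
  have hrp := B.one.ctx.prime r B.one.hr
  have hsp := B.one.ctx.prime s B.one.hs
  have hqp := B.one.ctx.prime q B.one.hq
  haveI := Fact.mk hrp
  haveI := Fact.mk hsp
  haveI := Fact.mk hqp
  set R0 := Cfsg.pCoreOf r M ⊓ centralizer {e} with hR0
  have hR0r : IsPGroup r R0 := (CharP.isPGroup_pCoreOf r M).to_le inf_le_left
  have hR0M : R0 ≤ M := inf_le_left.trans (CharP.pCoreOf_le r M)
  have hMe : M ≤ normalizer (zpowers e : Set G) := B.hMK.trans B.hKe
  have hnR0 : M ≤ normalizer (R0 : Set G) := by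
    rw [hR0, ← centralizer_zpowers]
    exact fun m hm => normal_inf_centralizer_le _ _ ⟨CharP.le_normalizer_pCoreOf r M hm, hMe hm⟩
  by_contra hS
  set S1 := Cfsg.pCoreOf s M with hS1
  have hS1M : S1 ≤ M := CharP.pCoreOf_le s M
  have hS1n : M ≤ normalizer (S1 : Set G) := CharP.le_normalizer_pCoreOf s M
  obtain ⟨x₁, hx₁, hx₁o⟩ := exists_orderOf_eq hR0r hne
  have hS1e : ∀ t ∈ S1, Commute t e → t = 1 := by
    intro t ht hte
    by_contra ht1
    have hne' : S1 ⊓ centralizer {e} ≠ ⊥ := fun h => ht1 (inf_cent_eq_bot_iff.1 h t ht hte)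
    obtain ⟨t', ht', ht'o⟩ := exists_orderOf_eq ((CharP.isPGroup_pCoreOf s M).to_le inf_le_left) hne'
    refine B.not_pair hx₁o ht'o (commute_of_normalize (hR0M.trans hS1n) (hS1M.trans hnR0) ?_ hx₁
      ht'.1) (mem_cent.1 hx₁.2) (mem_cent.1 ht'.2)
    exact Subgroup.inf_eq_bot_of_coprime
      (coprime_of_isPGroup hrp hsp B.one.hrs hR0r (CharP.isPGroup_pCoreOf s M))
  obtain ⟨N, hN, hN1, hMN, t, ht, htd, hNe⟩ := exists_elem_le hS1M hS1n hS
  obtain ⟨k, hk⟩ := IsPGroup.iff_card.1 (CharP.isPGroup_pCoreOf s M)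
  have hts : t = s := (Nat.prime_dvd_prime_iff_eq ht hsp).1 (ht.dvd_of_dvd_pow (hk ▸ htd))
  subst hts
  by_cases hc : IsCyclic N
  swap
  · obtain ⟨g, hg, hg1, hge⟩ :=
      exists_commute_of_not_cyclic hc B.he ((hN.trans hS1M).trans hMe)
    exact hg1 (hS1e g (hN hg) hge)
  obtain ⟨t0, ht0, ht01⟩ := exists_ne_one_of_ne_bot hN1
  have ht0o := hNe.orderOf_eq ht0 ht01
  have hline : zpowers t0 = N := le_antisymm (zpowers_le.2 ht0) fun w hw =>
    hNe.mem_zpowers_of_isCyclic hc ht0 ht01 hw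
  have ht0M := hS1M (hN ht0)
  have ht0e : ¬ Commute t0 e := fun h => ht01 (hS1e t0 (hN ht0) h)
  have hM0t0 : ∀ z ∈ M, Commute z e → Commute z t0 := by
    intro z hz hze
    have hnM0 : M ≤ normalizer ((M ⊓ centralizer {e} : Subgroup G) : Set G) := by
      rw [← centralizer_zpowers]
      exact fun m hm => normal_inf_centralizer_le _ _ ⟨Subgroup.le_normalizer hm, hMe hm⟩
    refine commute_of_normalize (inf_le_left.trans hS1n) (hS1M.trans hnM0) ?_
      (show z ∈ M ⊓ centralizer {e} from ⟨hz, mem_cent.2 hze⟩) (hN ht0)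
    rw [eq_bot_iff_forall]
    exact fun w hw => hS1e w hw.2 (mem_cent.1 hw.1.2)
  have hfpf : ∀ x ∈ M, orderOf x = r → Commute x t0 → P ⊓ centralizer {x} = ⊥ := by
    intro x hx hxo hxt
    have hxe : Commute x e :=
      (B.pair (B.hMK hx) (B.hMK ht0M) hxo ht0o hxt).resolve_right ht0e
    exact B.one.move B.one.hs B.one.hq B.one.hr B.one.hps B.one.hpq B.one.hpr B.one.hrs.symm B.he
      ht0o hxo (hMe ht0M) ht0e hxe hxt B.fpf_e
  obtain ⟨Fr₀, hFr₀⟩ := B.one.ctx.plane r B.one.hr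
  obtain ⟨Fr, hFrM, hFr⟩ := plane_into B.hM hrp (Or.inl rfl) hFr₀
  obtain ⟨g, hg, hgo, w, hw, hw1, hwg⟩ :=
    B.one.fix_fpf B.one.hr B.one.hpr hFr.toIsElem hFr.not_isCyclic
  have hrs' : r ∣ t - 1 := dvd_sub_one ht0o hgo (hline ▸ hMN (hFrM hg)) fun h =>
    hw1 (inf_cent_eq_bot_iff.1 (hfpf g (hFrM hg) hgo h) w hw hwg)
  have huniq : ∀ x ∈ R0, orderOf x = r → x ∈ zpowers x₁ := fun x hx hxo =>
    unique_of_fpf hR0r (B.one.le_normalizer R0)
      (coprime_zpowers hrp (B.one.ctx.prime p B.one.hp) B.one.hpr.symm hx₁o B.one.eP.isPGroup)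
      B.one.P1 (fun z hz hzo => hfpf z (hR0M hz) hzo (hM0t0 z (hR0M hz) (mem_cent.1 hz.2)))
      hx₁ hx hx₁o hxo
  obtain ⟨Fs₀, hFs₀⟩ := B.one.ctx.plane t B.one.hs
  obtain ⟨Fs, hFsM, hFs⟩ := plane_into B.hM hsp (Or.inr rfl) hFs₀
  obtain ⟨y, hy, hy1, hye⟩ :=
    exists_commute_of_not_cyclic hFs.not_isCyclic B.he (hFsM.trans hMe)
  have hyn : y ∈ normalizer (zpowers x₁ : Set G) := conj_mem_normalizer (huniq _
    ((mem_normalizer_iff.1 (hnR0 (hFsM hy)) x₁).1 hx₁) (by rw [orderOf_conj, hx₁o]))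
  exact not_dvd_both hsp hrp hrs' (dvd_sub_one hx₁o (hFs.toIsElem.orderOf_eq hy hy1) hyn fun h =>
    B.not_pair hx₁o (hFs.toIsElem.orderOf_eq hy hy1) h.symm (mem_cent.1 hx₁.2) hye)

theorem CaseB.false_of_core (B : CaseB σ p q r s P K M e) [Finite G] [Group.IsSolvable G]
    (hne : Cfsg.pCoreOf r M ⊓ centralizer {e} ≠ ⊥) : False := by
  have hrp := B.one.ctx.prime r B.one.hr
  have hsp := B.one.ctx.prime s B.one.hs
  have hqp := B.one.ctx.prime q B.one.hq
  have hpp := B.one.ctx.prime p B.one.hp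
  haveI := Fact.mk hrp
  haveI := Fact.mk hsp
  haveI := Fact.mk hqp
  have hS := B.core_trivial hne
  set R1 := Cfsg.pCoreOf r M with hR1
  set R0 := R1 ⊓ centralizer {e} with hR0
  have hR1r : IsPGroup r R1 := CharP.isPGroup_pCoreOf r M
  have hR0r : IsPGroup r R0 := hR1r.to_le inf_le_left
  have hR0M : R0 ≤ M := inf_le_left.trans (CharP.pCoreOf_le r M)
  have hMe : M ≤ normalizer (zpowers e : Set G) := B.hMK.trans B.hKe
  have hnR0 : M ≤ normalizer (R0 : Set G) := by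
    rw [hR0, ← centralizer_zpowers]
    exact fun m hm => normal_inf_centralizer_le _ _ ⟨CharP.le_normalizer_pCoreOf r M hm, hMe hm⟩
  obtain ⟨Fs₀, hFs₀⟩ := B.one.ctx.plane s B.one.hs
  obtain ⟨F, hFM, hF⟩ := plane_into B.hM hsp (Or.inr rfl) hFs₀
  have hFo : ∀ g ∈ F, g ≠ 1 → orderOf g = s := fun g => hF.toIsElem.orderOf_eq
  have hcopF : (Nat.card F).Coprime (Nat.card R0) :=
    coprime_of_isPGroup hsp hrp B.one.hrs.symm hF.toIsElem.isPGroup hR0r
  have hzero : ∀ g ∈ F, g ≠ 1 → Commute g e → ∀ x ∈ R0, orderOf x = r → ¬ Commute x g :=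
    fun g hg hg1 hge x hx hxo hxg =>
      B.not_pair hxo (hFo g hg hg1) hxg (mem_cent.1 hx.2) hge
  have hfpfu : ∀ g ∈ F, g ≠ 1 → ¬ Commute g e → ∀ x ∈ R0, orderOf x = r → Commute x g →
      P ⊓ centralizer {x} = ⊥ := fun g hg hg1 hge x hx hxo hxg =>
    B.one.move B.one.hs B.one.hq B.one.hr B.one.hps B.one.hpq B.one.hpr B.one.hrs.symm B.he
      (hFo g hg hg1) hxo (hMe (hFM hg)) hge (mem_cent.1 hx.2) hxg B.fpf_e
  have huu : ∀ g ∈ F, g ≠ 1 → ∀ x ∈ R0, ∀ x' ∈ R0, orderOf x = r → orderOf x' = r →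
      Commute x g → Commute x' g → x' ∈ zpowers x := by
    intro g hg hg1 x hx x' hx' hxo hx'o hxg hx'g
    by_cases hge : Commute g e
    · exact absurd hxg (hzero g hg hg1 hge x hx hxo)
    · exact unique_of_fpf (R := R0 ⊓ centralizer {g}) (hR0r.to_le inf_le_left)
        (B.one.le_normalizer _) (coprime_zpowers hrp hpp B.one.hpr.symm hxo B.one.eP.isPGroup)
        B.one.P1 (fun z hz hzo => hfpfu g hg hg1 hge z hz.1 hzo (mem_cent.1 hz.2))
        ⟨hx, mem_cent.2 hxg⟩ ⟨hx', mem_cent.2 hx'g⟩ hxo hx'o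
  obtain ⟨y, hy, hy1, hye⟩ :=
    exists_commute_of_not_cyclic hF.not_isCyclic B.he (hFM.trans hMe)
  have hne1 : ∀ {x : G}, orderOf x = r → x ≠ 1 := fun hxo h =>
    hrp.ne_one (by rw [← hxo, h, orderOf_one])
  by_cases hall : ∀ x ∈ R0, ∀ x' ∈ R0, orderOf x = r → orderOf x' = r → x' ∈ zpowers x
  · obtain ⟨a, haR, hao⟩ := exists_orderOf_eq hR0r hne
    have hMa : M ≤ normalizer (zpowers a : Set G) := fun m hm => conj_mem_normalizer
      (hall a haR _ ((mem_normalizer_iff.1 (hnR0 hm) a).1 haR) hao (by rw [orderOf_conj, hao]))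
    have hr2 : r ≠ 2 := odd_of_dvd hrp hsp (dvd_sub_one hao (hFo y hy hy1) (hMa (hFM hy))
      fun h => hzero y hy hy1 hye a haR hao h.symm)
    haveI hcyc : IsCyclic R0 := isCyclic_of_unique hr2 hR0r hall
    obtain ⟨z, hz, hz1, hza⟩ :=
      exists_commute_of_not_cyclic hF.not_isCyclic hao (hFM.trans hMa)
    have hzR0 : ∀ x ∈ R0, Commute z x := centralizes_of_unique hR0r
      (fun x hx x' hx' =>
        congrArg Subtype.val (IsCyclic.commGroup.mul_comm (⟨x, hx⟩ : R0) ⟨x', hx'⟩))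
      (fun x hx hxo => hall a haR x hx hao hxo) hza (hnR0 (hFM hz))
      (by rw [hFo z hz hz1]; exact coprime_zpowers hsp hrp B.one.hrs.symm (hFo z hz hz1) hR0r)
    have hcomm : ⁅R1, zpowers z⁆ ≤ R0 := by
      rw [Subgroup.commutator_le]
      intro k hk h hh
      have hhM : h ∈ M := zpowers_le.2 (hFM hz) hh
      refine ⟨?_, mem_cent.2 (commutator_centralizes (hMe (CharP.pCoreOf_le r M hk)) (hMe hhM)
        (mem_zpowers e))⟩
      rw [commutatorElement_def]
      have := mul_mem hk ((mem_normalizer_iff.1 (CharP.le_normalizer_pCoreOf r M hhM) k⁻¹).1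
        (inv_mem hk))
      simpa [mul_assoc] using this
    have hcen := Coprime.le_centralizer_of_series (A := zpowers z) (K := R1) (N := R0)
      (by rw [Nat.card_zpowers, hFo z hz hz1]
          exact coprime_zpowers hsp hrp B.one.hrs.symm (hFo z hz hz1) hR0r) hcomm
      (commutator_eq_bot_iff_le_centralizer.2
        (le_cent_zpowers.2 fun x hx => (hzR0 x hx).symm))
    exact not_centralize_core (r := r) (B.one.primesM B.hM) hS (hFM hz) (hFo z hz hz1) fun x hx =>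
      (mem_centralizer_iff.1 (hcen (mem_zpowers z)) x hx).symm
  set Z0 := R0 ⊓ centralizer (R0 : Set G) with hZ0
  have hnZ0 : M ≤ normalizer (Z0 : Set G) := fun m hm =>
    normal_inf_centralizer_le R0 R0 ⟨hnR0 hm, hnR0 hm⟩
  have hZ01 : Z0 ≠ ⊥ := by
    obtain ⟨c, hc, hco, hcc⟩ := exists_central hR0r hne
    intro h
    have : c ∈ Z0 := ⟨hc, mem_centralizer_iff.2 fun x hx => (hcc x hx).eq.symm⟩
    rw [h, mem_bot] at this
    exact hne1 hco this
  obtain ⟨u, hu, hu1, w, hw, hw1, hwu⟩ := exists_fix hF.toIsElem hF.not_isCyclic (hFM.trans hnZ0)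
    (hcopF.coprime_dvd_right (card_dvd_of_le inf_le_left)) hZ01
  obtain ⟨a, ha, hao⟩ := exists_orderOf_eq (R := Z0 ⊓ centralizer {u})
    (hR0r.to_le (inf_le_left.trans inf_le_left))
    (fun h => hw1 (inf_cent_eq_bot_iff.1 h w hw hwu))
  have haR : a ∈ R0 := ha.1.1
  have hau : Commute a u := mem_cent.1 ha.2
  obtain ⟨u', hu', hu'1, a', ha'R, ha'o, ha'u', ha'a⟩ : ∃ u' ∈ F, u' ≠ 1 ∧ ∃ a' ∈ R0,
      orderOf a' = r ∧ Commute a' u' ∧ a' ∉ zpowers a := by
    by_contra hno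
    push Not at hno
    have hle : R0 ≤ centralizer ({u} : Set G) := by
      refine gen_le hF.toIsElem hF.not_isCyclic (hFM.trans hnR0) hcopF fun g hg hg1 => ?_
      by_cases hgu : g ∈ zpowers u
      · rintro x ⟨-, hx⟩
        exact mem_cent.2 (commute_of_mem_zpowers (hFo u hu hu1) hgu hg1 (mem_cent.1 hx))
      · refine le_of_eq_of_le ?_ bot_le
        by_contra hne'
        obtain ⟨x, hx, hxo⟩ := exists_orderOf_eq (hR0r.to_le inf_le_left) hne'
        have hag : Commute a g := (commute_of_mem_zpowers hao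
          (hno g hg hg1 x hx.1 hxo (mem_cent.1 hx.2)) (hne1 hxo) (mem_cent.1 hx.2).symm).symm
        have hFa : F ≤ centralizer ({a} : Set G) := by
          rw [← hF.sup_eq hu hg hu1 hgu]
          exact sup_le (zpowers_le.2 (mem_cent.2 hau.symm)) (zpowers_le.2 (mem_cent.2 hag.symm))
        exact hzero y hy hy1 hye a haR hao (mem_cent.1 (hFa hy)).symm
    exact hall fun x hx x' hx' hxo hx'o =>
      huu u hu hu1 x hx x' hx' hxo hx'o (mem_cent.1 (hle hx)) (mem_cent.1 (hle hx'))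
  have hua' : ¬ Commute u a' := fun h => ha'a (huu u hu hu1 a haR a' ha'R hao ha'o hau h.symm)
  have hu'a : ¬ Commute u' a := fun h =>
    ha'a (huu u' hu' hu'1 a haR a' ha'R hao ha'o h.symm ha'u')
  have hWn : M ≤ normalizer (Cfsg.pCoreOf q K : Set G) :=
    B.hMK.trans (CharP.le_normalizer_pCoreOf q K)
  have hWq : IsPGroup q (Cfsg.pCoreOf q K) := CharP.isPGroup_pCoreOf q K
  have half : ∀ u ∈ F, u ≠ 1 → ∀ a ∈ R0, orderOf a = r → Commute a u →
      (∀ g ∈ F, g ∈ normalizer (zpowers a : Set G)) ∧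
        Cfsg.pCoreOf q K ⊓ centralizer {u} = ⊥ := by
    intro u hu hu1 a haR hao hau
    have hge : ¬ Commute u e := fun h => hzero u hu hu1 h a haR hao hau
    have hFn : ∀ g ∈ F, g ∈ normalizer (zpowers a : Set G) := by
      intro g hg
      refine conj_mem_normalizer (huu u hu hu1 a haR _
        ((mem_normalizer_iff.1 (hnR0 (hFM hg)) a).1 haR) hao (by rw [orderOf_conj, hao]) hau ?_)
      have hgu : Commute g u := hF.comm g hg u hu
      exact (hgu.mul_left hau).mul_left hgu.inv_left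
    refine ⟨hFn, ?_⟩
    by_contra hne'
    obtain ⟨v, hv, hvo⟩ := exists_orderOf_eq (hWq.to_le inf_le_left) hne'
    have huniq : ∀ x ∈ Cfsg.pCoreOf q K ⊓ centralizer {u}, orderOf x = q → x ∈ zpowers v :=
      fun x hx hxo => unique_of_fpf (hWq.to_le inf_le_left) (B.one.le_normalizer _)
        (coprime_zpowers hqp hpp B.one.hpq.symm hvo B.one.eP.isPGroup) B.one.P1
        (fun z hz hzo => B.one.move B.one.hs B.one.hq B.one.hq B.one.hps B.one.hpq B.one.hpq
          B.one.hqs.symm B.he (hFo u hu hu1) hzo (hMe (hFM hu)) hge (B.hec z hz.1).symm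
          (mem_cent.1 hz.2) B.fpf_e) hv hx hvo hxo
    have hnorm : ∀ g ∈ M, Commute g u → g ∈ normalizer (zpowers v : Set G) := fun g hg hgu =>
      conj_mem_normalizer (huniq _
        ((mem_normalizer_iff.1 (mem_normalizer_inf_cent (hWn hg) hgu) v).1 hv)
        (by rw [orderOf_conj, hvo]))
    have hva : Commute v a := commute_cyclic hao (hFn y hy)
      (fun h => hzero y hy hy1 hye a haR hao h.symm) (hnorm y (hFM hy) (hF.comm y hy u hu))
      (hnorm a (hR0M haR) hau) (mem_zpowers v)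
    exact B.one.ctx.no3 B.one.hq B.one.hr B.one.hs B.one.hqr B.one.hrs B.one.hqs hvo hao
      (hFo u hu hu1) hva hau (mem_cent.1 hv.2)
  have hfW : ∀ u ∈ F, u ≠ 1 → Cfsg.pCoreOf q K ⊓ centralizer {u} = ⊥ → ∀ a ∈ R0, orderOf a = r →
      u ∈ normalizer (zpowers a : Set G) → ¬ Commute u a →
        ∀ v ∈ Cfsg.pCoreOf q K, Commute a v := by
    intro u hu hu1 hfix a haR hao hua hnc v hv
    set W := Cfsg.pCoreOf q K with hW
    have haW : a ∈ normalizer (W : Set G) := hWn (hR0M haR)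
    have huW : u ∈ normalizer (W : Set G) := hWn (hFM hu)
    have hH : u ∈ normalizer ((W ⊔ zpowers a : Subgroup G) : Set G) := by
      rw [mem_normalizer_iff_map_conj_eq, Subgroup.map_sup]
      rw [mem_normalizer_iff_map_conj_eq] at huW hua
      rw [huW, hua]
    have hd : W ⊓ zpowers a = ⊥ := Subgroup.inf_eq_bot_of_coprime
      (coprime_of_isPGroup hqp hrp B.one.hqr hWq (isPGroup_zpowers hao))
    have hfixH : (W ⊔ zpowers a) ⊓ centralizer {u} = ⊥ := by
      rw [inf_cent_eq_bot_iff]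
      intro h hh hhu
      obtain ⟨w, hw, b, hb, rfl⟩ : h ∈ (W : Set G) * (zpowers a : Set G) := by
        rw [← Subgroup.coe_mul_of_right_le_normalizer_left W (zpowers a) (zpowers_le.2 haW)]
        exact hh
      have hw' : u * w * u⁻¹ ∈ W := (mem_normalizer_iff.1 huW w).1 hw
      have hb' : u * b * u⁻¹ ∈ zpowers a := (mem_normalizer_iff.1 hua b).1 hb
      have heq : u * w * u⁻¹ * (u * b * u⁻¹) = w * b := by
        have h1 := hhu.symm.eq
        simp only at h1
        calc u * w * u⁻¹ * (u * b * u⁻¹) = u * (w * b) * u⁻¹ := by group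
          _ = w * b := by rw [h1, mul_inv_cancel_right]
      have := Subgroup.mul_injective_of_disjoint (disjoint_iff.2 hd)
        (a₁ := ((⟨_, hw'⟩, ⟨_, hb'⟩) : W × zpowers a)) (a₂ := (⟨w, hw⟩, ⟨b, hb⟩)) heq
      simp only [Prod.mk.injEq, Subtype.mk.injEq] at this
      have hw0 : w = 1 :=
        inf_cent_eq_bot_iff.1 hfix w hw (mul_inv_eq_iff_eq_mul.1 this.1).symm
      have hb0 : b = 1 := by
        by_contra hb1
        exact hnc (commute_of_mem_zpowers hao hb hb1 (mul_inv_eq_iff_eq_mul.1 this.2))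
      simp [hw0, hb0]
    have hnil := OddTau.Basic.isNilpotent_of_fpf (p := s) (K := W ⊔ zpowers a) inferInstance hH
      (hFo u hu hu1 ▸ pow_orderOf_eq_one u) hfixH
    refine KegelWielandt.commute_of_coprime hnil (mem_sup_right (mem_zpowers a)) (mem_sup_left hv) ?_
    obtain ⟨k, hk⟩ := IsPGroup.iff_orderOf.1 hWq ⟨v, hv⟩
    rw [Subgroup.orderOf_mk] at hk
    rw [hao, hk]
    exact ((Nat.coprime_primes hrp hqp).2 B.one.hqr.symm).pow_right k
  obtain ⟨hn, hfu⟩ := half u hu hu1 a haR hao hau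
  obtain ⟨hn', hfu'⟩ := half u' hu' hu'1 a' ha'R ha'o ha'u'
  have haW := hfW u' hu' hu'1 hfu' a haR hao (hn u' hu') hu'a
  have ha'W := hfW u hu hu1 hfu a' ha'R ha'o (hn' u hu) hua'
  set Rk := Cfsg.pCoreOf r K with hRk
  have hRkr : IsPGroup r Rk := CharP.isPGroup_pCoreOf r K
  have hcoreM : ∀ t, t = r ∨ t = s → Cfsg.pCoreOf t K ≤ Cfsg.pCoreOf t M := by
    intro t ht
    have hnt : M ≤ normalizer (Cfsg.pCoreOf t K : Set G) :=
      B.hMK.trans (CharP.le_normalizer_pCoreOf t K)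
    refine CharP.le_pCoreOf (CharP.isPGroup_pCoreOf t K) (le_of_normalized B.hM hnt ?_) hnt
    intro l hl hd
    haveI := Fact.mk (show t.Prime by rcases ht with rfl | rfl <;> assumption)
    obtain ⟨k, hk⟩ := IsPGroup.iff_card.1 (CharP.isPGroup_pCoreOf t K)
    rw [hk] at hd
    rw [(Nat.prime_dvd_prime_iff_eq hl Fact.out).1 (hl.dvd_of_dvd_pow hd)]
    simpa using ht
  have hRkR0 : Rk ≤ R0 := fun x hx => ⟨hcoreM r (Or.inl rfl) hx, mem_cent.2
    (mem_centralizer_iff.1 (OddOrder.Fitting.pCoreOf_commute B.one.hqr.symm K hx) e B.heW).symm⟩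
  have hr2 : r ≠ 2 := odd_of_dvd hrp hsp (dvd_sub_one hao (hFo y hy hy1) (hn y hy)
    fun h => hzero y hy hy1 hye a haR hao h.symm)
  haveI hRkc : IsCyclic Rk := isCyclic_of_unique hr2 hRkr B.smallR
  have hKn : M ≤ normalizer (Rk : Set G) := B.hMK.trans (CharP.le_normalizer_pCoreOf r K)
  have hfit : ∀ a ∈ R0, orderOf a = r → (∀ g ∈ F, g ∈ normalizer (zpowers a : Set G)) →
      (∀ v ∈ Cfsg.pCoreOf q K, Commute a v) → a ∈ Rk := by
    intro a haR hao hn haW
    refine OddOrder.Fitting.mem_pCoreOf_of_pow (k := 1) ?_ (by rw [hao, pow_one])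
    refine OddOrder.Fitting.inf_centralizer_fittingOf_le K ⟨B.hMK (hR0M haR), ?_⟩
    refine OddOrder.Fitting.mem_centralizer_fittingOf fun t ht hd x hx => ?_
    have htK : t ∣ Nat.card K := hd.trans (card_dvd_of_le (Subgroup.map_subtype_le _))
    have htp : t ≠ p := B.one.hall.1 t ht.out htK
    rcases B.one.cases t (B.one.ctx.primes t ht.out (htK.trans K.card_subgroup_dvd_card))
      with rfl | rfl | rfl | rfl
    · exact absurd rfl htp
    · exact haW x hx
    · exact (commute_cyclic hao (hn y hy) (fun h => hzero y hy hy1 hye a haR hao h.symm)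
        (hKn (hFM hy)) (hKn (hR0M haR)) hx).symm
    · have := hcoreM t (Or.inr rfl) hx
      rw [hS, mem_bot] at this
      rw [this]
      exact Commute.one_right a
  exact ha'a (B.smallR a (hfit a haR hao hn haW) a' (hfit a' ha'R ha'o hn' ha'W) hao ha'o)

theorem CaseB.false (B : CaseB σ p q r s P K M e) [Finite G] [Group.IsSolvable G] : False := by
  haveI := Fact.mk (B.one.ctx.prime q B.one.hq)
  haveI := Fact.mk (B.one.ctx.prime r B.one.hr)
  have hMe : M ≤ normalizer (zpowers e : Set G) := B.hMK.trans B.hKe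
  obtain ⟨Fr₀, hFr₀⟩ := B.one.ctx.plane r B.one.hr
  obtain ⟨Fr, hFrM, hFr⟩ := plane_into B.hM (B.one.ctx.prime r B.one.hr) (Or.inl rfl) hFr₀
  obtain ⟨g, hg, hg1, hge⟩ :=
    exists_commute_of_not_cyclic hFr.not_isCyclic B.he (hFrM.trans hMe)
  set M0 := M ⊓ centralizer {e} with hM0
  have hMM0 : M ≤ normalizer (M0 : Set G) := by
    rw [hM0, ← centralizer_zpowers]
    exact fun m hm => normal_inf_centralizer_le _ _ ⟨Subgroup.le_normalizer hm, hMe hm⟩
  have hM01 : M0 ≠ ⊥ := fun h => hg1 (inf_cent_eq_bot_iff.1 h g (hFrM hg) hge)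
  obtain ⟨N, hN, hN1, hMN, t, ht, htd, hNe⟩ := exists_elem_le inf_le_left hMM0 hM01
  have key : Cfsg.pCoreOf t M ⊓ centralizer {e} ≠ ⊥ := fun h => hN1 (le_bot_iff.1 (h ▸ le_inf
    (CharP.le_pCoreOf hNe.isPGroup (hN.trans inf_le_left) hMN) (hN.trans inf_le_right)))
  rcases B.one.primesM B.hM t ht (htd.trans (card_dvd_of_le inf_le_left)) with h | h <;> subst h
  · exact B.false_of_core key
  · exact B.swapRS.false_of_core key

/-- One normal elementary Sylow subgroup with faithful complement is impossible. -/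
theorem caseOne [Finite G] [Group.IsSolvable G] (h : Ctx σ G) (hp : p ∈ σ) [hPn : P.Normal]
    (hP : IsElem p P) (hP1 : P ≠ ⊥)
    (hirr : ∀ V : Subgroup G, V ≤ P → K ≤ normalizer (V : Set G) → V = ⊥ ∨ V = P)
    (hfaith : ∀ g ∈ K, (∀ w ∈ P, Commute g w) → g = 1)
    (hK : Cfsg.IsPiHall {t : ℕ | t ≠ p} K) : False := by
  classical
  have mk : ∀ q ∈ σ, p ≠ q → ∃ r s, OneNormal σ p q r s P K ∧
      ∃ M, M ≤ K ∧ Cfsg.IsPiHall ({r, s} : Set ℕ) M := by
    intro q hq hpq
    obtain ⟨r, s, hr, hs, hrs, hpr, hps, hqr, hqs, hall⟩ := exists_other_two h.card hp hq hpq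
    refine ⟨r, s, ⟨h, hp, hq, hr, hs, hpq, hpr, hps, hqr, hqs, hrs, hall, hPn, hP, hP1, hirr, hfaith,
      hK⟩, exists_hall_le hK ?_⟩
    rintro t (rfl | rfl)
    · exact hpr.symm
    · exact hps.symm
  by_cases hA : ∃ q ∈ σ, p ≠ q ∧
      ∃ E ≤ K, IsElem q E ∧ ¬ IsCyclic E ∧ K ≤ normalizer (E : Set G)
  · obtain ⟨q, hq, hpq, E, hEK, hE, hnc, hKE⟩ := hA
    obtain ⟨r, s, T, M, hMK, hM⟩ := mk q hq hpq
    exact CaseA.false ⟨T, hEK, hE, hnc, hKE, hMK, hM⟩
  push Not at hA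
  have hcore : ∀ t ∈ σ, p ≠ t → Cfsg.pCoreOf t K ≠ ⊥ → ∃ a ∈ Cfsg.pCoreOf t K, orderOf a = t ∧
      (∀ x ∈ Cfsg.pCoreOf t K, Commute a x) ∧ K ≤ normalizer (zpowers a : Set G) := by
    intro t ht htp hne
    haveI := Fact.mk (h.prime t ht)
    obtain ⟨a, ha, hao, hac⟩ := exists_central (CharP.isPGroup_pCoreOf t K) hne
    have haΩ : a ∈ omegaCenter t (Cfsg.pCoreOf t K) := ⟨ha, hao ▸ pow_orderOf_eq_one a, hac⟩
    have hn : K ≤ normalizer (omegaCenter t (Cfsg.pCoreOf t K) : Set G) :=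
      (CharP.le_normalizer_pCoreOf t K).trans (normalizer_le_omegaCenter _ _)
    have hcyc : IsCyclic (omegaCenter t (Cfsg.pCoreOf t K)) := by
      by_contra hnc
      exact hA t ht htp _ (omegaCenter_le.trans (CharP.pCoreOf_le t K)) (isElem_omegaCenter _ _)
        hnc hn
    have ha1 : a ≠ 1 := fun h' => (h.prime t ht).ne_one (by rw [← hao, h', orderOf_one])
    have hline : zpowers a = omegaCenter t (Cfsg.pCoreOf t K) :=
      le_antisymm (zpowers_le.2 haΩ) fun w hw =>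
        (isElem_omegaCenter _ _).mem_zpowers_of_isCyclic hcyc haΩ ha1 hw
    exact ⟨a, ha, hao, hac, hline ▸ hn⟩
  obtain ⟨q, hq, hpq, hne, hbig⟩ : ∃ q ∈ σ, p ≠ q ∧ Cfsg.pCoreOf q K ≠ ⊥ ∧
      ∀ t ∈ σ, p ≠ t → t ≠ q → ∀ E ≤ Cfsg.pCoreOf t K, ¬ IsPlane t E := by
    by_cases hpl : ∃ q ∈ σ, p ≠ q ∧ ∃ E ≤ Cfsg.pCoreOf q K, IsPlane q E
    · obtain ⟨q, hq, hpq, E, hE, hEp⟩ := hpl
      haveI := Fact.mk (h.prime q hq)
      refine ⟨q, hq, hpq, fun hb => hEp.not_isCyclic ?_, fun t ht htp htq F hF hFp => ?_⟩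
      · have h0 : E = ⊥ := le_bot_iff.1 (hE.trans hb.le)
        rw [h0]
        infer_instance
      haveI := Fact.mk (h.prime t ht)
      obtain ⟨r, s, T, -⟩ := mk q hq hpq
      obtain ⟨g, hg, hgo, w, hw, hw1, hwg⟩ := T.fix_fpf hq hpq hEp.toIsElem hEp.not_isCyclic
      have hcom : ∀ f ∈ F, Commute f g := fun f hf =>
        (mem_centralizer_iff.1 (OddOrder.Fitting.pCoreOf_commute htq K (hF hf)) g (hE hg)).symm
      obtain ⟨f, hf, hf1, v, hv, hv1, hvf⟩ := exists_fix (V := P ⊓ centralizer {g}) hFp.toIsElem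
        hFp.not_isCyclic (fun f hf => mem_normalizer_inf_cent (T.mem_normalizer f) (hcom f hf))
        ((T.coprime ht htp hFp.toIsElem.isPGroup).coprime_dvd_right (card_dvd_of_le inf_le_left))
        (fun hb => hw1 (inf_cent_eq_bot_iff.1 hb w hw hwg))
      exact h.no3 hp ht hq htp htq hpq (T.orderP hv.1 hv1) (hFp.toIsElem.orderOf_eq hf hf1) hgo hvf
        (hcom f hf) (mem_cent.1 hv.2)
    · push Not at hpl
      obtain ⟨q₀, hq₀, hpq₀⟩ := Finset.exists_mem_ne (by rw [h.card]; norm_num : 1 < σ.card) p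
      obtain ⟨E, hE⟩ := h.plane q₀ hq₀
      haveI := Fact.mk (h.prime q₀ hq₀)
      obtain ⟨F, hFK, hF⟩ := plane_into hK (h.prime q₀ hq₀) (Ne.symm hpq₀.symm) hE
      have hK1 : K ≠ ⊥ := fun hb => hF.not_isCyclic (by
        have h0 : F = ⊥ := le_bot_iff.1 (hFK.trans hb.le)
        rw [h0]; infer_instance)
      obtain ⟨N, hN, hN1, hKN, t, ht, htd, hNe⟩ :=
        exists_elem_le (M := K) le_rfl Subgroup.le_normalizer hK1
      refine ⟨t, h.primes t ht (htd.trans K.card_subgroup_dvd_card), (hK.1 t ht htd).symm,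
        fun hb => hN1 (le_bot_iff.1 (hb ▸ CharP.le_pCoreOf hNe.isPGroup hN hKN)),
        fun l hl hlp _ E hE => hpl l hl hlp E hE⟩
  obtain ⟨r, s, T, M, hMK, hM⟩ := mk q hq hpq
  obtain ⟨e, heW, heo, hec, hKe⟩ := hcore q hq hpq hne
  have small : ∀ t ∈ σ, p ≠ t → t ≠ q → ∀ x ∈ Cfsg.pCoreOf t K, ∀ y ∈ Cfsg.pCoreOf t K,
      orderOf x = t → orderOf y = t → y ∈ zpowers x := by
    intro t ht htp htq x hx y hy hxo hyo
    haveI := Fact.mk (h.prime t ht)
    have hx1 : x ≠ 1 := fun h' => (h.prime t ht).ne_one (by rw [← hxo, h', orderOf_one])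
    obtain ⟨a, ha, hao, hac, -⟩ :=
      hcore t ht htp (fun hb => hx1 (by rwa [hb, mem_bot] at hx))
    have key : ∀ z ∈ Cfsg.pCoreOf t K, orderOf z = t → z ∈ zpowers a := by
      intro z hz hzo
      by_contra hnot
      obtain ⟨E, hE, hEp⟩ := exists_isPlane_of_ne hao hzo (hac z hz) hnot ha hz
      exact hbig t ht htp htq E hE hEp
    rw [zpowers_eq_of_mem hao (key x hx hxo) hx1]
    exact key y hy hyo
  exact CaseB.false ⟨T, heo, heW, hec, hKe, small r T.hr T.hpr T.hqr.symm,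
    small s T.hs T.hps T.hqs.symm, hMK, hM⟩

end Cfsg.Agent.Lib.PrimeGraph.NoTriple
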