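import Cfsg.Agent.Lib.PrimeGraph.NoTriple.Ctx

/-!
The case of two normal elementary Sylow subgroups.
-/

set_option autoImplicit false
set_option linter.style.haveILetI false

namespace Cfsg.Agent.Lib.PrimeGraph.NoTriple

open Subgroup

variable {G : Type*} [Group G]

/-- the configuration -/
structure TwoNormal (σ : Finset ℕ) (p q r s : ℕ) (P Q M : Subgroup G) : Prop where
  ctx : Ctx σ G
  hp : p ∈ σ
  hq : q ∈ σ
  hr : r ∈ σ
  hs : s ∈ σ
  hpq : p ≠ q
  hpr : p ≠ r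
  hps : p ≠ s
  hqr : q ≠ r
  hqs : q ≠ s
  hrs : r ≠ s
  nP : P.Normal
  nQ : Q.Normal
  eP : IsElem p P
  eQ : IsElem q Q
  P1 : P ≠ ⊥
  Q1 : Q ≠ ⊥
  irrP : ∀ V : Subgroup G, V ≤ P → M ≤ normalizer (V : Set G) → Q ≤ normalizer (V : Set G) →
    V = ⊥ ∨ V = P
  irrQ : ∀ V : Subgroup G, V ≤ Q → M ≤ normalizer (V : Set G) → P ≤ normalizer (V : Set G) →
    V = ⊥ ∨ V = Q
  hall : Cfsg.IsPiHall ({r, s} : Set ℕ) M

variable {σ : Finset ℕ} {p q r s : ℕ} {P Q M : Subgroup G}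

theorem TwoNormal.swapRS (T : TwoNormal σ p q r s P Q M) : TwoNormal σ p q s r P Q M :=
  { T with
    hr := T.hs, hs := T.hr, hpr := T.hps, hps := T.hpr, hqr := T.hqs, hqs := T.hqr
    hrs := T.hrs.symm, hall := Set.pair_comm r s ▸ T.hall }

theorem TwoNormal.swapPQ (T : TwoNormal σ p q r s P Q M) : TwoNormal σ q p r s Q P M :=
  { T with
    hp := T.hq, hq := T.hp, hpq := T.hpq.symm, hpr := T.hqr, hps := T.hqs, hqr := T.hpr
    hqs := T.hps, nP := T.nQ, nQ := T.nP, eP := T.eQ, eQ := T.eP, P1 := T.Q1, Q1 := T.P1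
    irrP := T.irrQ, irrQ := T.irrP }

theorem TwoNormal.commPQ (T : TwoNormal σ p q r s P Q M) [Finite G] {w v : G} (hw : w ∈ P)
    (hv : v ∈ Q) : Commute w v :=
  Subgroup.commute_of_normal_of_disjoint P Q T.nP T.nQ
    (disjoint_iff.2 (Subgroup.inf_eq_bot_of_coprime (coprime_of_isPGroup (T.ctx.prime p T.hp)
      (T.ctx.prime q T.hq) T.hpq T.eP.isPGroup T.eQ.isPGroup))) w v hw hv

theorem TwoNormal.le_normalizer (T : TwoNormal σ p q r s P Q M) (X : Subgroup G) :
    X ≤ normalizer (P : Set G) := by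
  haveI := T.nP
  rw [Subgroup.normalizer_eq_top]
  exact le_top

theorem TwoNormal.coprime (T : TwoNormal σ p q r s P Q M) [Finite G] {E : Subgroup G}
    (hE : IsPGroup r E) : (Nat.card E).Coprime (Nat.card P) :=
  coprime_of_isPGroup (T.ctx.prime r T.hr) (T.ctx.prime p T.hp) T.hpr.symm hE T.eP.isPGroup

theorem TwoNormal.orderP (T : TwoNormal σ p q r s P Q M) {w : G} (hw : w ∈ P) (hw1 : w ≠ 1) :
    orderOf w = p :=
  haveI := Fact.mk (T.ctx.prime p T.hp)
  T.eP.orderOf_eq hw hw1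

/-- an element of order `r` fixes no points on both `P` and `Q` -/
theorem TwoNormal.not_both (T : TwoNormal σ p q r s P Q M) [Finite G] {z w v : G}
    (hz : orderOf z = r) (hw : w ∈ P) (hw1 : w ≠ 1) (hwz : Commute w z) (hv : v ∈ Q) (hv1 : v ≠ 1)
    (hvz : Commute v z) : False :=
  T.ctx.no3 T.hp T.hq T.hr T.hpq T.hqr T.hpr (T.orderP hw hw1) (T.swapPQ.orderP hv hv1) hz
    (T.commPQ hw hv) hvz hwz

/-- the fixed points of a normal subgroup of `M` of order `r` on `P` are trivial -/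
theorem TwoNormal.fpf_line [Finite G] [Group.IsSolvable G] (T : TwoNormal σ p q r s P Q M) {a : G}
    (ha : orderOf a = r) (haM : a ∈ M) (hMa : M ≤ normalizer (zpowers a : Set G)) :
    P ⊓ centralizer {a} = ⊥ := by
  haveI := Fact.mk (T.ctx.prime r T.hr)
  haveI := Fact.mk (T.ctx.prime s T.hs)
  have hnorm : ∀ X Y : Subgroup G, (X = P ∨ X = Q) → M ≤ normalizer (X : Set G) →
      Y ≤ normalizer (X : Set G) → (∀ y ∈ Y, ∀ x ∈ X, Commute y x) →
      M ≤ normalizer ((X ⊓ centralizer {a} : Subgroup G) : Set G) ∧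
        Y ≤ normalizer ((X ⊓ centralizer {a} : Subgroup G) : Set G) := by
    intro X Y _ hMX hYX hc
    refine ⟨?_, fun y hy => ?_⟩
    · rw [← centralizer_closure, ← zpowers_eq_closure]
      exact fun m hm => normal_inf_centralizer_le X (zpowers a) ⟨hMX hm, hMa hm⟩
    · refine centralizer_le_normalizer _ ?_
      exact mem_centralizer_iff.2 fun x hx => (hc y hy x hx.1).eq.symm
  have hP := hnorm P Q (Or.inl rfl) (T.le_normalizer M) (T.le_normalizer Q)
    (fun y hy x hx => (T.commPQ hx hy).symm)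
  have hQ := hnorm Q P (Or.inr rfl) (T.swapPQ.le_normalizer M) (T.swapPQ.le_normalizer P)
    (fun y hy x hx => T.commPQ hy hx)
  refine (T.irrP _ inf_le_left hP.1 hP.2).resolve_right fun hPa => ?_
  have hPa' : ∀ w ∈ P, Commute w a := fun w hw =>
    mem_cent.1 ((hPa.symm ▸ hw : w ∈ P ⊓ centralizer {a})).2
  obtain ⟨w0, hw0, hw01⟩ := exists_ne_one_of_ne_bot T.P1
  have hQa : Q ⊓ centralizer {a} = ⊥ := by
    by_contra hne
    obtain ⟨v, hv, hv1, hva⟩ := exists_commute_of_inf_ne_bot hne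
    exact T.not_both ha hw0 hw01 (hPa' w0 hw0) hv hv1 hva
  have hfix : ∀ z ∈ M, orderOf z = s → P ⊓ centralizer {z} = ⊥ := by
    intro z hzM hz
    by_contra hne
    obtain ⟨w, hw, hw1, hwz⟩ := exists_commute_of_inf_ne_bot hne
    by_cases hza : Commute a z
    · exact T.ctx.no3 T.hp T.hr T.hs T.hpr T.hrs T.hps (T.orderP hw hw1) ha hz (hPa' w hw) hza hwz
    · have hfz : Q ⊓ centralizer {z} = ⊥ := by
        by_contra hne'
        obtain ⟨v, hv, hv1, hvz⟩ := exists_commute_of_inf_ne_bot hne'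
        exact T.swapRS.not_both hz hw hw1 hwz hv hv1 hvz
      have hcen := key_one (Z := zpowers a) T.eQ.comm hz (T.swapPQ.le_normalizer _)
        (T.swapPQ.le_normalizer M hzM) (hMa hzM) (zpowers_inf_cent_eq_bot ha hza) hfz
        (T.swapPQ.coprime (isPGroup_zpowers ha))
      obtain ⟨v, hv, hv1⟩ := exists_ne_one_of_ne_bot T.Q1
      have : v ∈ Q ⊓ centralizer {a} :=
        ⟨hv, mem_cent.2 (mem_centralizer_iff.1 (hcen (mem_zpowers a)) v hv)⟩
      rw [hQa, mem_bot] at this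
      exact hv1 this
  obtain ⟨E, hE⟩ := T.ctx.plane s T.hs
  obtain ⟨F, hFM, hF⟩ := plane_into T.hall (T.ctx.prime s T.hs) (Or.inr rfl) hE
  obtain ⟨g, hg, hg1, w, hw, hw1, hwg⟩ := exists_fix hF.toIsElem hF.not_isCyclic (T.le_normalizer F)
    (T.swapRS.coprime hF.toIsElem.isPGroup) T.P1
  exact hw1 ((inf_cent_eq_bot_iff.1 (hfix g (hFM hg) (hF.toIsElem.orderOf_eq hg hg1))) w hw hwg)

/-- elements of prime order of `M` commute with a normal subgroup of order `r` -/
theorem TwoNormal.commute_line [Finite G] [Group.IsSolvable G] (T : TwoNormal σ p q r s P Q M)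
    {a z : G} (ha : orderOf a = r) (haM : a ∈ M) (hMa : M ≤ normalizer (zpowers a : Set G))
    (hzM : z ∈ M) (hz : orderOf z = r ∨ orderOf z = s) : Commute z a := by
  haveI := Fact.mk (T.ctx.prime r T.hr)
  haveI := Fact.mk (T.ctx.prime s T.hs)
  rcases hz with hz | hz
  · exact commute_of_not_dvd ha hz (hMa hzM) (not_dvd_self_sub_one (T.ctx.prime r T.hr))
  by_contra hza
  have key : ∀ {p' q' : ℕ} {P' Q' : Subgroup G}, TwoNormal σ p' q' r s P' Q' M →
      ∃ w ∈ P', w ≠ 1 ∧ Commute w z := by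
    intro p' q' P' Q' T'
    by_contra hno
    push Not at hno
    have hfz : P' ⊓ centralizer {z} = ⊥ :=
      inf_cent_eq_bot_iff.2 fun w hw hwz => by_contra fun h1 => hno w hw h1 hwz
    have hcen := key_one (Z := zpowers a) T'.eP.comm hz (T'.le_normalizer _)
      (T'.le_normalizer M hzM) (hMa hzM) (zpowers_inf_cent_eq_bot ha fun h => hza h.symm) hfz
      (T'.coprime (isPGroup_zpowers ha))
    obtain ⟨w, hw, hw1⟩ := exists_ne_one_of_ne_bot T'.P1
    exact hw1 ((inf_cent_eq_bot_iff.1 (T'.fpf_line ha haM hMa)) w hw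
      (mem_centralizer_iff.1 (hcen (mem_zpowers a)) w hw))
  obtain ⟨w, hw, hw1, hwz⟩ := key T
  obtain ⟨v, hv, hv1, hvz⟩ := key T.swapPQ
  exact T.swapRS.not_both hz hw hw1 hwz hv hv1 hvz

/-- an elementary normal `r`-subgroup of `M` is cyclic -/
theorem TwoNormal.isCyclic_normal [Finite G] [Group.IsSolvable G] (T : TwoNormal σ p q r s P Q M)
    {E : Subgroup G} (hE : IsElem r E) (hEM : E ≤ M) (hME : M ≤ normalizer (E : Set G)) :
    IsCyclic E := by
  by_contra hnc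
  haveI := Fact.mk (T.ctx.prime r T.hr)
  haveI := Fact.mk (T.ctx.prime s T.hs)
  have faith : ∀ {p' q' : ℕ} {P' Q' : Subgroup G}, TwoNormal σ p' q' r s P' Q' M →
      ∀ e ∈ E, (∀ v ∈ P', Commute e v) → e = 1 := by
    intro p' q' P' Q' T' e he hcomm
    by_contra he1
    set D := E ⊓ centralizer (P' : Set G) with hD
    have heD : e ∈ D := ⟨he, mem_centralizer_iff.2 fun v hv => (hcomm v hv).eq.symm⟩
    have hMD : M ≤ normalizer (D : Set G) := fun m hm =>
      normal_inf_centralizer_le E P' ⟨hME hm, T'.le_normalizer M hm⟩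
    by_cases hc : IsCyclic D
    · have hline : zpowers e = D := le_antisymm (zpowers_le.2 heD) fun z hz =>
        (hE.mono inf_le_left).mem_zpowers_of_isCyclic hc heD he1 hz
      have hfp := T'.fpf_line (hE.orderOf_eq he he1) (hEM he) (hline ▸ hMD)
      obtain ⟨w, hw, hw1⟩ := exists_ne_one_of_ne_bot T'.P1
      exact hw1 (inf_cent_eq_bot_iff.1 hfp w hw (hcomm w hw).symm)
    · obtain ⟨g, hg, hg1, v, hv, hv1, hvg⟩ := exists_fix (hE.mono inf_le_left) hc
        (T'.swapPQ.le_normalizer D) (T'.swapPQ.coprime (hE.mono inf_le_left).isPGroup) T'.Q1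
      obtain ⟨w, hw, hw1⟩ := exists_ne_one_of_ne_bot T'.P1
      exact T'.not_both (hE.orderOf_eq hg.1 hg1) hw hw1 (mem_centralizer_iff.1 hg.2 w hw)
        hv hv1 hvg
  obtain ⟨E₀, hE₀⟩ := T.ctx.plane s T.hs
  obtain ⟨F, hFM, hF⟩ := plane_into T.hall (T.ctx.prime s T.hs) (Or.inr rfl) hE₀
  obtain ⟨y, hy, hy1, w, hw, hw1, hwy⟩ := exists_fix hF.toIsElem hF.not_isCyclic (T.le_normalizer F)
    (T.swapRS.coprime hF.toIsElem.isPGroup) T.P1
  have hyo := hF.toIsElem.orderOf_eq hy hy1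
  have hfy : Q ⊓ centralizer {y} = ⊥ := by
    by_contra hne
    obtain ⟨v, hv, hv1, hvy⟩ := exists_commute_of_inf_ne_bot hne
    exact T.swapRS.not_both hyo hw hw1 hwy hv hv1 hvy
  have hcy : ∀ e ∈ E, Commute e y := fun e he =>
    commute_of_key hE.comm T.eQ.comm hyo (hME (hFM hy)) (T.swapPQ.le_normalizer E)
      (T.swapPQ.le_normalizer F hy) hfy
      (by
        have := coprime_of_isPGroup (T.ctx.prime s T.hs) (T.ctx.prime r T.hr) T.hrs.symm
          (isPGroup_zpowers hyo) hE.isPGroup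
        rwa [Nat.card_zpowers, hyo] at this)
      (T.swapPQ.coprime hE.isPGroup) (faith T.swapPQ) he
  obtain ⟨g, hg, hg1, v, hv, hv1, hvg⟩ := exists_fix (V := P ⊓ centralizer {y}) hE hnc
    (fun e he => mem_normalizer_inf_cent (T.le_normalizer E he) (hcy e he))
    ((T.coprime hE.isPGroup).coprime_dvd_right (card_dvd_of_le inf_le_left))
    (fun h => hw1 (inf_cent_eq_bot_iff.1 h w hw hwy))
  exact T.ctx.no3 T.hp T.hr T.hs T.hpr T.hrs T.hps (T.orderP hv.1 hv1) (hE.orderOf_eq hg hg1) hyo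
    hvg (hcy g hg) (mem_cent.1 hv.2)

/-- the subgroups of order `r` of the `r`-core of `M` coincide -/
theorem TwoNormal.core_line [Finite G] [Group.IsSolvable G] (T : TwoNormal σ p q r s P Q M)
    (hne : Cfsg.pCoreOf r M ≠ ⊥) :
    ∃ a ∈ Cfsg.pCoreOf r M, orderOf a = r ∧ M ≤ normalizer (zpowers a : Set G) ∧
      ∀ x ∈ Cfsg.pCoreOf r M, orderOf x = r → x ∈ zpowers a := by
  haveI := Fact.mk (T.ctx.prime r T.hr)
  set R := Cfsg.pCoreOf r M with hR
  have hRr : IsPGroup r R := CharP.isPGroup_pCoreOf r M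
  have hRM : R ≤ M := CharP.pCoreOf_le r M
  obtain ⟨a, haR, hao, hac⟩ := exists_central hRr hne
  have haM := hRM haR
  have ha1 : a ≠ 1 := fun h => (T.ctx.prime r T.hr).ne_one (by rw [← hao, h, orderOf_one])
  have haΩ : a ∈ omegaCenter r R := ⟨haR, hao ▸ pow_orderOf_eq_one a, hac⟩
  have hMΩ : M ≤ normalizer (omegaCenter r R : Set G) :=
    (CharP.le_normalizer_pCoreOf r M).trans (normalizer_le_omegaCenter r R)
  have hcyc := T.isCyclic_normal (isElem_omegaCenter r R) (omegaCenter_le.trans hRM) hMΩ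
  have hz : ∀ z ∈ R, orderOf z = r → (∀ x ∈ R, Commute z x) → z ∈ zpowers a := fun z hz hzo hzc =>
    (isElem_omegaCenter r R).mem_zpowers_of_isCyclic hcyc haΩ ha1
      ⟨hz, hzo ▸ pow_orderOf_eq_one z, hzc⟩
  have hline : zpowers a = omegaCenter r R := le_antisymm (zpowers_le.2 haΩ) fun z hz' =>
    (isElem_omegaCenter r R).mem_zpowers_of_isCyclic hcyc haΩ ha1 hz'
  have hMa : M ≤ normalizer (zpowers a : Set G) := hline ▸ hMΩ
  refine ⟨a, haR, hao, hMa, fun x hx hxo => ?_⟩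
  by_contra hxa
  obtain ⟨y, hyR, hyo, hy⟩ := exists_twist hRr hao haR hac hz hx hxo hxa
  have hcopr : ∀ {p' : ℕ} {V : Subgroup G}, p' ∈ σ → r ≠ p' → IsPGroup p' V →
      r.Coprime (Nat.card V) := by
    intro p' V hp' hne' hV
    have := coprime_of_isPGroup (T.ctx.prime r T.hr) (T.ctx.prime p' hp') hne'
      (isPGroup_zpowers hao) hV
    rwa [Nat.card_zpowers, hao] at this
  obtain ⟨w, hw, hw1, hwy⟩ := hy P (T.le_normalizer R) (hcopr T.hp T.hpr.symm T.eP.isPGroup) T.P1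
    (T.fpf_line hao haM hMa)
  obtain ⟨v, hv, hv1, hvy⟩ := hy Q (T.swapPQ.le_normalizer R)
    (hcopr T.hq T.hqr.symm T.eQ.isPGroup) T.Q1 (T.swapPQ.fpf_line hao haM hMa)
  exact T.not_both hyo hw hw1 hwy hv hv1 hvy

theorem TwoNormal.false_of_ne_two [Finite G] [Group.IsSolvable G] (T : TwoNormal σ p q r s P Q M)
    (hr2 : r ≠ 2) : False := by
  haveI := Fact.mk (T.ctx.prime r T.hr)
  haveI := Fact.mk (T.ctx.prime s T.hs)
  set R := Cfsg.pCoreOf r M with hR
  have hRr : IsPGroup r R := CharP.isPGroup_pCoreOf r M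
  have hRM : R ≤ M := CharP.pCoreOf_le r M
  obtain ⟨E₀, hE₀⟩ := T.ctx.plane s T.hs
  obtain ⟨F, hFM, hF⟩ := plane_into T.hall (T.ctx.prime s T.hs) (Or.inr rfl) hE₀
  obtain ⟨S₀, hS₀⟩ := (hF.toIsElem.isPGroup.comap_subtype (K := M)).exists_le_sylow
  set S := (S₀ : Subgroup M).map M.subtype with hS
  have hSs : IsPGroup s S := S₀.isPGroup'.map _
  have hSM : S ≤ M := Subgroup.map_subtype_le _
  have hFS : F ≤ S := fun x hx => ⟨⟨x, hFM hx⟩, hS₀ hx, rfl⟩
  have hcoreS : Cfsg.pCoreOf s M ≤ S := Subgroup.map_mono (Cores.pCore_le_sylow S₀)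
  have hF1 : F ≠ ⊥ := by
    rintro rfl
    exact hF.not_isCyclic inferInstance
  have hS1 : S ≠ ⊥ := fun h => hF1 (le_bot_iff.1 (h ▸ hFS))
  have hcent : ∀ u ∈ S, orderOf u = s → (∀ x ∈ S, Commute u x) → u ∈ Cfsg.pCoreOf s M := by
    intro u hu huo huc
    have huM := hSM hu
    have hR' : ∀ x ∈ R, Commute u x := by
      rcases eq_or_ne R ⊥ with h0 | h0
      · intro x hx
        rw [h0, mem_bot] at hx
        rw [hx]
        exact Commute.one_right u
      obtain ⟨a, haR, hao, hMa, huniq⟩ := T.core_line h0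
      haveI hcycR : IsCyclic R := isCyclic_of_unique hr2 hRr fun x hx y hy hxo hyo => by
        have hx1 : x ≠ 1 := fun h => (T.ctx.prime r T.hr).ne_one (by rw [← hxo, h, orderOf_one])
        rw [zpowers_eq_of_mem hao (huniq x hx hxo) hx1]
        exact huniq y hy hyo
      refine centralizes_of_unique hRr (fun x hx y hy => ?_) huniq
        (T.commute_line hao (hRM haR) hMa huM (Or.inr huo))
        (CharP.le_normalizer_pCoreOf r M huM) ?_
      · exact congrArg Subtype.val (IsCyclic.commGroup.mul_comm (⟨x, hx⟩ : R) ⟨y, hy⟩)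
      · rw [← Nat.card_zpowers]
        exact coprime_of_isPGroup (T.ctx.prime s T.hs) (T.ctx.prime r T.hr) T.hrs.symm
          (isPGroup_zpowers huo) hRr
    refine OddOrder.Fitting.mem_pCoreOf_of_pow (k := 1) ?_ (by rw [huo, pow_one])
    refine OddOrder.Fitting.inf_centralizer_fittingOf_le M ⟨huM, ?_⟩
    refine OddOrder.Fitting.mem_centralizer_fittingOf fun t ht hd x hx => ?_
    have htM : t ∣ Nat.card M := hd.trans (card_dvd_of_le (Subgroup.map_subtype_le _))
    rcases (T.hall.1 t ht.out htM : t ∈ ({r, s} : Set ℕ)) with h | h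
    · subst h; exact hR' x hx
    · rw [Set.mem_singleton_iff] at h
      subst h; exact huc x (hcoreS hx)
  obtain ⟨u, huS, huo, huc⟩ := exists_central hSs hS1
  have huC := hcent u huS huo huc
  obtain ⟨b, hbC, hbo, hMb, hbuniq⟩ := T.swapRS.core_line (fun h => by
    rw [h, mem_bot] at huC
    exact (T.ctx.prime s T.hs).ne_one (by rw [← huo, huC, orderOf_one]))
  have hu1 : u ≠ 1 := fun h => (T.ctx.prime s T.hs).ne_one (by rw [← huo, h, orderOf_one])
  have hline : zpowers u = zpowers b := zpowers_eq_of_mem hbo (hbuniq u huC huo) hu1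
  have hbc : ∀ x ∈ S, Commute b x := fun x hx =>
    (commute_of_mem_zpowers hbo (hbuniq u huC huo) hu1 (huc x hx).symm).symm
  have hz : ∀ z ∈ S, orderOf z = s → (∀ x ∈ S, Commute z x) → z ∈ zpowers b := fun z hz hzo hzc =>
    hbuniq z (hcent z hz hzo hzc) hzo
  obtain ⟨g, hg, hgb⟩ : ∃ g ∈ F, g ∉ zpowers b := by
    by_contra hno
    push Not at hno
    exact hF.not_isCyclic (isCyclic_of_le (show F ≤ zpowers b from hno))
  have hgo : orderOf g = s := hF.toIsElem.orderOf_eq hg (fun h => hgb (h ▸ one_mem _))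
  obtain ⟨y, hyS, hyo, hy⟩ := exists_twist hSs hbo (hcoreS hbC) hbc hz (hFS hg) hgo hgb
  have hbM : b ∈ M := CharP.pCoreOf_le s M hbC
  have hcops : ∀ {V : Subgroup G} {p' : ℕ}, p' ∈ σ → s ≠ p' → IsPGroup p' V →
      s.Coprime (Nat.card V) := by
    intro V p' hp' hne' hV
    have := coprime_of_isPGroup (T.ctx.prime s T.hs) (T.ctx.prime p' hp') hne'
      (isPGroup_zpowers hbo) hV
    rwa [Nat.card_zpowers, hbo] at this
  obtain ⟨w, hw, hw1, hwy⟩ := hy P (T.le_normalizer S) (hcops T.hp T.hps.symm T.eP.isPGroup) T.P1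
    (T.swapRS.fpf_line hbo hbM hMb)
  obtain ⟨v, hv, hv1, hvy⟩ := hy Q (T.swapPQ.le_normalizer S)
    (hcops T.hq T.hqs.symm T.eQ.isPGroup) T.Q1 (T.swapRS.swapPQ.fpf_line hbo hbM hMb)
  exact T.swapRS.not_both hyo hw hw1 hwy hv hv1 hvy

/-- Two normal elementary Sylow subgroups are impossible. -/
theorem caseTwo [Finite G] [Group.IsSolvable G] (h : Ctx σ G) (hp : p ∈ σ) (hq : q ∈ σ)
    (hpq : p ≠ q) [hPn : P.Normal] [hQn : Q.Normal] (hP : IsElem p P) (hQ : IsElem q Q)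
    (hP1 : P ≠ ⊥) (hQ1 : Q ≠ ⊥)
    (hPirr : ∀ N : Subgroup G, N.Normal → N ≤ P → N = ⊥ ∨ N = P)
    (hQirr : ∀ N : Subgroup G, N.Normal → N ≤ Q → N = ⊥ ∨ N = Q)
    (hPidx : ¬ p ∣ P.index) (hQidx : ¬ q ∣ Q.index) : False := by
  obtain ⟨r, s, hr, hs, hrs, hpr, hps, hqr, hqs, hall⟩ := exists_other_two h.card hp hq hpq
  obtain ⟨M, hM⟩ := Hall.exists_isPiHall (G := G) ({r, s} : Set ℕ)
  have htop : P ⊔ Q ⊔ M = ⊤ := by
    rw [← Subgroup.index_eq_one]
    by_contra hne
    obtain ⟨t, ht, htd⟩ := Nat.exists_prime_and_dvd hne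
    have htσ := h.primes t ht (htd.trans (Subgroup.index_dvd_card _))
    rcases hall t htσ with h1 | h1 | h1 | h1 <;> subst h1
    · exact hPidx (htd.trans (Subgroup.index_dvd_of_le (le_sup_left.trans le_sup_left)))
    · exact hQidx (htd.trans (Subgroup.index_dvd_of_le (le_sup_right.trans le_sup_left)))
    · exact hM.2 t ht (Or.inl rfl) (htd.trans (Subgroup.index_dvd_of_le le_sup_right))
    · exact hM.2 t ht (Or.inr rfl) (htd.trans (Subgroup.index_dvd_of_le le_sup_right))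
  have hirr : ∀ (X Y : Subgroup G) (e : ℕ), IsElem e X → (∀ N : Subgroup G, N.Normal → N ≤ X →
      N = ⊥ ∨ N = X) → X ⊔ Y ⊔ M = ⊤ → ∀ V : Subgroup G, V ≤ X → M ≤ normalizer (V : Set G) →
      Y ≤ normalizer (V : Set G) → V = ⊥ ∨ V = X := by
    intro X Y e hX hXirr hsup V hV hMV hYV
    refine hXirr V ?_ hV
    rw [← Subgroup.normalizer_eq_top_iff, ← top_le_iff, ← hsup]
    refine sup_le (sup_le (fun x hx => ?_) hYV) hMV
    exact centralizer_le_normalizer _
      (mem_centralizer_iff.2 fun v hv => (hX.comm x hx v (hV hv)).eq.symm)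
  have T : TwoNormal σ p q r s P Q M :=
    ⟨h, hp, hq, hr, hs, hpq, hpr, hps, hqr, hqs, hrs, hPn, hQn, hP, hQ, hP1, hQ1,
      hirr P Q p hP hPirr htop, hirr Q P q hQ hQirr (by rw [sup_comm Q P]; exact htop), hM⟩
  rcases ne_or_eq r 2 with h2 | h2
  · exact T.false_of_ne_two h2
  · exact T.swapRS.false_of_ne_two (fun h3 => hrs (h2.trans h3.symm))

end Cfsg.Agent.Lib.PrimeGraph.NoTriple
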