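import Cfsg.Agent.Lib.PrimeGraph.NoTriple.Basic
import Cfsg.Agent.Lib.PGroups.UniqueInvolution
import Cfsg.Agent.Lib.OddOrder.Fitting
import Cfsg.Agent.Lib.Cores.MinNormal

/-!
The hypotheses shared by the cases: every two of four primes, but no three, have commuting elements.
-/

set_option autoImplicit false
set_option linter.style.haveILetI false

namespace Cfsg.Agent.Lib.PrimeGraph.NoTriple

open Subgroup
open scoped Pointwise commutatorElement

/-- `σ` consists of four primes, the only ones dividing `|G|`; every two of them but no three are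
joined, and every one of them has a plane. -/
structure Ctx (σ : Finset ℕ) (G : Type*) [Group G] : Prop where
  card : σ.card = 4
  prime : ∀ p ∈ σ, p.Prime
  primes : ∀ p : ℕ, p.Prime → p ∣ Nat.card G → p ∈ σ
  tri : ∀ x y z : G, orderOf x ∈ σ → orderOf y ∈ σ → orderOf z ∈ σ → orderOf x ≠ orderOf y →
    orderOf y ≠ orderOf z → orderOf x ≠ orderOf z → Commute x y → Commute y z → Commute x z → False
  pair : ∀ p ∈ σ, ∀ q ∈ σ, p ≠ q → ∃ x y : G, orderOf x = p ∧ orderOf y = q ∧ Commute x y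
  plane : ∀ p ∈ σ, ∃ E : Subgroup G, IsPlane p E

variable {G : Type*} [Group G]

theorem Ctx.no3 {σ : Finset ℕ} (h : Ctx σ G) {p q r : ℕ} (hp : p ∈ σ) (hq : q ∈ σ) (hr : r ∈ σ)
    (hpq : p ≠ q) (hqr : q ≠ r) (hpr : p ≠ r) {x y z : G} (hx : orderOf x = p) (hy : orderOf y = q)
    (hz : orderOf z = r) (hxy : Commute x y) (hyz : Commute y z) (hxz : Commute x z) : False :=
  h.tri x y z (hx ▸ hp) (hy ▸ hq) (hz ▸ hr) (hx ▸ hy ▸ hpq) (hy ▸ hz ▸ hqr) (hx ▸ hz ▸ hpr)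
    hxy hyz hxz

theorem exists_other_two {σ : Finset ℕ} (hσ : σ.card = 4) {p q : ℕ} (hp : p ∈ σ) (hq : q ∈ σ)
    (hpq : p ≠ q) : ∃ r s, r ∈ σ ∧ s ∈ σ ∧ r ≠ s ∧ p ≠ r ∧ p ≠ s ∧ q ≠ r ∧ q ≠ s ∧
      ∀ t ∈ σ, t = p ∨ t = q ∨ t = r ∨ t = s := by
  obtain ⟨r, s, hrs, he⟩ : ∃ r s, r ≠ s ∧ (σ.erase p).erase q = {r, s} := by
    refine Finset.card_eq_two.1 ?_
    rw [Finset.card_erase_of_mem (Finset.mem_erase.2 ⟨hpq.symm, hq⟩), Finset.card_erase_of_mem hp,
      hσ]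
  have hr : r ∈ (σ.erase p).erase q := by rw [he]; simp
  have hs : s ∈ (σ.erase p).erase q := by rw [he]; simp
  simp only [Finset.mem_erase] at hr hs
  refine ⟨r, s, hr.2.2, hs.2.2, hrs, hr.2.1.symm, hs.2.1.symm, hr.1.symm, hs.1.symm, fun t ht => ?_⟩
  rcases eq_or_ne t p with h1 | h1
  · exact Or.inl h1
  rcases eq_or_ne t q with h2 | h2
  · exact Or.inr (Or.inl h2)
  have : t ∈ (σ.erase p).erase q := Finset.mem_erase.2 ⟨h2, Finset.mem_erase.2 ⟨h1, ht⟩⟩
  rw [he, Finset.mem_insert, Finset.mem_singleton] at this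
  exact Or.inr (Or.inr this)

theorem mem_conj_smul {M : Subgroup G} {g x : G} (h : x ∈ MulAut.conj g • M) :
    g⁻¹ * x * g⁻¹⁻¹ ∈ M := by
  rw [Subgroup.mem_pointwise_smul_iff_inv_smul_mem] at h
  simpa using h

theorem plane_into [Finite G] [Group.IsSolvable G] {π : Set ℕ} {M : Subgroup G}
    (hM : Cfsg.IsPiHall π M) {t : ℕ} (ht : t.Prime) (htπ : t ∈ π) {E : Subgroup G}
    (hE : IsPlane t E) : ∃ F : Subgroup G, F ≤ M ∧ IsPlane t F := by
  obtain ⟨g, hg⟩ := Hall.exists_conj_le hM (K := E) (fun p hp hd => by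
    rw [hE.card] at hd
    rwa [(Nat.prime_dvd_prime_iff_eq hp ht).1 (hp.dvd_of_dvd_pow hd)])
  refine ⟨E.map (MulAut.conj g⁻¹).toMonoidHom, ?_, hE.map _ (MulAut.conj g⁻¹).injective⟩
  rintro _ ⟨x, hx, rfl⟩
  simpa using mem_conj_smul (hg hx)

theorem pair_into [Finite G] [Group.IsSolvable G] {π : Set ℕ} {M : Subgroup G}
    (hM : Cfsg.IsPiHall π M) {r s : ℕ} (hr : r.Prime) (hs : s.Prime) (hrs : r ≠ s) (hrπ : r ∈ π)
    (hsπ : s ∈ π) {x u : G} (hx : orderOf x = r) (hu : orderOf u = s) (hxu : Commute x u) :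
    ∃ x' ∈ M, ∃ u' ∈ M, orderOf x' = r ∧ orderOf u' = s ∧ Commute x' u' := by
  have hcop : (orderOf x).Coprime (orderOf u) := by rw [hx, hu]; exact (Nat.coprime_primes hr hs).2 hrs
  obtain ⟨g, hg⟩ := Hall.exists_conj_le hM (K := zpowers (x * u)) (fun p hp hd => by
    rw [Nat.card_zpowers, hxu.orderOf_mul_eq_mul_orderOf_of_coprime hcop, hx, hu] at hd
    rcases (Nat.Prime.dvd_mul hp).1 hd with h | h
    · rwa [(Nat.prime_dvd_prime_iff_eq hp hr).1 h]
    · rwa [(Nat.prime_dvd_prime_iff_eq hp hs).1 h])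
  haveI := Fact.mk hr
  haveI := Fact.mk hs
  have key : ∀ {t l : ℕ} {a b : G}, t.Prime → l.Prime → t ≠ l → orderOf a = t → orderOf b = l →
      Commute a b → a ∈ zpowers (a * b) := by
    intro t l a b ht hl htl ha hb hab
    haveI := Fact.mk ht
    have h1 : (a * b) ^ l = a ^ l := by rw [hab.mul_pow, ← hb, pow_orderOf_eq_one, mul_one]
    have h2 : a ^ l ≠ 1 := fun h => htl ((Nat.prime_dvd_prime_iff_eq ht hl).1
      (ha ▸ orderOf_dvd_of_pow_eq_one h))
    have h3 : a ∈ zpowers (a ^ l) := by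
      rw [zpowers_eq_of_mem ha (pow_mem (mem_zpowers a) l) h2]
      exact mem_zpowers a
    exact zpowers_le.2 (h1 ▸ pow_mem (mem_zpowers (a * b)) l) h3
  have hxm := hg (key hr hs hrs hx hu hxu)
  have hum := hg (hxu.eq ▸ key hs hr hrs.symm hu hx hxu.symm)
  refine ⟨_, mem_conj_smul hxm, _, mem_conj_smul hum, by rw [orderOf_conj, hx],
    by rw [orderOf_conj, hu], ?_⟩
  simpa using hxu.map (MulAut.conj g⁻¹).toMonoidHom

/-- If `u` has no fixed point on the abelian group `V` and no nontrivial element of the abelian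
group `A` normalised by `u` centralises `V`, then `u` centralises `A`. -/
theorem commute_of_key [Finite G] {s : ℕ} [Fact s.Prime] {A V : Subgroup G} {u : G}
    (hA : ∀ a ∈ A, ∀ b ∈ A, Commute a b) (hV : ∀ a ∈ V, ∀ b ∈ V, Commute a b)
    (hu : orderOf u = s) (huA : u ∈ normalizer (A : Set G)) (hAV : A ≤ normalizer (V : Set G))
    (huV : u ∈ normalizer (V : Set G)) (hfix : V ⊓ centralizer {u} = ⊥)
    (hcopu : s.Coprime (Nat.card A)) (hcop : (Nat.card A).Coprime (Nat.card V))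
    (hfaith : ∀ a ∈ A, (∀ v ∈ V, Commute a v) → a = 1) {a : G} (ha : a ∈ A) : Commute a u := by
  haveI : IsMulCommutative A := ⟨⟨fun a b => Subtype.ext (hA a a.2 b b.2)⟩⟩
  have hle : zpowers u ≤ normalizer (A : Set G) := zpowers_le.2 huA
  have hZA : ⁅A, zpowers u⁆ ≤ A := Coprime.commutator_le_of_le_normalizer hle
  have h1 : ⁅A, zpowers u⁆ ≤ centralizer (V : Set G) := by
    refine key_one hV hu (hZA.trans hAV) huV
      (Coprime.right_le_normalizer_commutator A (zpowers u) (mem_zpowers u)) ?_ hfix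
      (hcop.coprime_dvd_left (card_dvd_of_le hZA))
    rw [eq_bot_iff_forall]
    rintro z ⟨hz, hzu⟩
    rw [← mem_bot, ← Coprime.centralizer_inf_commutator_eq_bot hle (by rwa [Nat.card_zpowers, hu])]
    exact ⟨⟨hZA hz, le_cent_zpowers.2 (fun x hx => mem_cent.1 hx) hzu⟩, hz⟩
  have h2 : ⁅A, zpowers u⁆ = ⊥ := by
    rw [eq_bot_iff_forall]
    intro z hz
    exact hfaith z (hZA hz) fun v hv => (mem_centralizer_iff.1 (h1 hz) v hv).symm
  exact (le_cent_zpowers.1 (commutator_eq_bot_iff_le_centralizer.1 h2)) a ha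

theorem zpowers_inf_cent_eq_bot [Finite G] {r : ℕ} [Fact r.Prime] {a u : G} (ha : orderOf a = r)
    (h : ¬ Commute a u) : zpowers a ⊓ centralizer {u} = ⊥ := by
  rw [eq_bot_iff_forall]
  rintro b ⟨hb, hbu⟩
  by_contra hb1
  exact h (commute_of_mem_zpowers ha hb hb1 (mem_cent.1 hbu).symm).symm

theorem centralizer_zpowers (e : G) :
    centralizer (zpowers e : Set G) = centralizer ({e} : Set G) := by
  rw [zpowers_eq_closure, centralizer_closure]

/-- Two subgroups normalising each other with trivial intersection commute. -/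
theorem commute_of_normalize {A B : Subgroup G} (hAB : A ≤ normalizer (B : Set G))
    (hBA : B ≤ normalizer (A : Set G)) (hd : A ⊓ B = ⊥) {a b : G} (ha : a ∈ A) (hb : b ∈ B) :
    Commute a b := by
  have h1 : ⁅a, b⁆ ∈ A ⊓ B := by
    rw [commutatorElement_def]
    refine mem_inf.2 ⟨?_, mul_mem ((mem_normalizer_iff.1 (hAB ha) b).1 hb) (inv_mem hb)⟩
    have := mul_mem ha ((mem_normalizer_iff.1 (hBA hb) a⁻¹).1 (inv_mem ha))
    simpa [mul_assoc] using this
  rw [hd, mem_bot, commutatorElement_eq_one_iff_mul_comm] at h1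
  exact h1

theorem exists_hall_le [Finite G] [Group.IsSolvable G] {π π' : Set ℕ} {K : Subgroup G}
    (hK : Cfsg.IsPiHall π' K) (hsub : π ⊆ π') :
    ∃ M : Subgroup G, M ≤ K ∧ Cfsg.IsPiHall π M := by
  obtain ⟨M, hM⟩ := Hall.exists_isPiHall (G := G) π
  obtain ⟨g, hg⟩ := Hall.exists_conj_le hK (K := M) (fun p hp hd => hsub (hM.1 p hp hd))
  refine ⟨MulAut.conj g⁻¹ • M, ?_, Hall.isPiHall_conj hM _⟩
  intro x hx
  rw [map_inv, Subgroup.mem_inv_pointwise_smul_iff] at hx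
  exact Subgroup.smul_mem_pointwise_smul_iff.1 (hg hx)

/-- With trivial `s`-core, an element of order `s` does not centralise the `r`-core. -/
theorem not_centralize_core [Finite G] {r s : ℕ} [Fact s.Prime] {M : Subgroup G}
    [Group.IsSolvable M] (hM : ∀ t : ℕ, t.Prime → t ∣ Nat.card M → t = r ∨ t = s)
    (hS : Cfsg.pCoreOf s M = ⊥) {z : G} (hzM : z ∈ M) (hz : orderOf z = s)
    (hc : ∀ x ∈ Cfsg.pCoreOf r M, Commute z x) : False := by
  have h1 : z ∈ Cfsg.pCoreOf s M := by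
    refine OddOrder.Fitting.mem_pCoreOf_of_pow (k := 1) ?_ (by rw [hz, pow_one])
    refine OddOrder.Fitting.inf_centralizer_fittingOf_le M ⟨hzM, ?_⟩
    refine OddOrder.Fitting.mem_centralizer_fittingOf fun t ht hd x hx => ?_
    rcases hM t ht.out (hd.trans (card_dvd_of_le (Subgroup.map_subtype_le _))) with rfl | rfl
    · exact hc x hx
    · rw [hS, mem_bot] at hx
      rw [hx]
      exact Commute.one_right z
  rw [hS, mem_bot] at h1
  rw [h1, orderOf_one] at hz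
  exact (Fact.out : s.Prime).ne_one hz.symm

theorem exists_ne_one_of_ne_bot {X : Subgroup G} (h : X ≠ ⊥) : ∃ x ∈ X, x ≠ 1 :=
  X.bot_or_exists_ne_one.resolve_left h

theorem exists_commute_of_inf_ne_bot {X : Subgroup G} {u : G} (h : X ⊓ centralizer {u} ≠ ⊥) :
    ∃ w ∈ X, w ≠ 1 ∧ Commute w u := by
  obtain ⟨w, ⟨hw, hwu⟩, hw1⟩ := exists_ne_one_of_ne_bot h
  exact ⟨w, hw, hw1, mem_cent.1 hwu⟩

theorem inf_cent_eq_bot_iff {X : Subgroup G} {u : G} :
    X ⊓ centralizer {u} = ⊥ ↔ ∀ w ∈ X, Commute w u → w = 1 := by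
  rw [eq_bot_iff_forall]
  exact ⟨fun h w hw hwu => h w ⟨hw, mem_cent.2 hwu⟩, fun h w hw => h w hw.1 (mem_cent.1 hw.2)⟩

theorem IsElem.mem_zpowers_of_isCyclic [Finite G] {t : ℕ} [Fact t.Prime] {E : Subgroup G}
    (hE : IsElem t E) (hc : IsCyclic E) {a z : G} (ha : a ∈ E) (ha1 : a ≠ 1) (hz : z ∈ E) :
    z ∈ zpowers a := by
  obtain ⟨g, hg⟩ := hc.exists_generator
  have h : ∀ w ∈ E, w ∈ zpowers (g : G) := fun w hw => by
    obtain ⟨k, hk⟩ := hg ⟨w, hw⟩
    exact ⟨k, congrArg Subtype.val hk⟩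
  have hg1 : (g : G) ≠ 1 := fun h' => ha1 (by simpa [h'] using h a ha)
  rw [zpowers_eq_of_mem (hE.orderOf_eq g.2 hg1) (h a ha) ha1]
  exact h z hz

/-- `Ω₁(Z(R))` -/
def omegaCenter (t : ℕ) (R : Subgroup G) : Subgroup G where
  carrier := {z | z ∈ R ∧ z ^ t = 1 ∧ ∀ x ∈ R, Commute z x}
  one_mem' := ⟨one_mem R, one_pow t, fun x _ => Commute.one_left x⟩
  mul_mem' := fun {x y} hx hy => ⟨mul_mem hx.1 hy.1,
    by rw [(hx.2.2 y hy.1).mul_pow, hx.2.1, hy.2.1, one_mul],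
    fun z hz => (hx.2.2 z hz).mul_left (hy.2.2 z hz)⟩
  inv_mem' := fun {x} hx => ⟨inv_mem hx.1, by rw [inv_pow, hx.2.1, inv_one],
    fun z hz => (hx.2.2 z hz).inv_left⟩

theorem mem_omegaCenter {t : ℕ} {R : Subgroup G} {z : G} :
    z ∈ omegaCenter t R ↔ z ∈ R ∧ z ^ t = 1 ∧ ∀ x ∈ R, Commute z x := Iff.rfl

theorem omegaCenter_le {t : ℕ} {R : Subgroup G} : omegaCenter t R ≤ R := fun _ h => h.1

theorem isElem_omegaCenter (t : ℕ) (R : Subgroup G) : IsElem t (omegaCenter t R) :=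
  ⟨fun _ hx y hy => hx.2.2 y hy.1, fun _ hx => hx.2.1⟩

theorem normalizer_le_omegaCenter [Finite G] (t : ℕ) (R : Subgroup G) :
    normalizer (R : Set G) ≤ normalizer (omegaCenter t R : Set G) := by
  refine le_normalizer_iff.2 fun g hg z hz => ⟨(mem_normalizer_iff.1 hg z).1 hz.1,
    by rw [conj_pow, hz.2.1, mul_one, mul_inv_cancel], fun x hx => ?_⟩
  have h1 : g⁻¹ * x * g ∈ R := by simpa using (mem_normalizer_iff.1 (inv_mem hg) x).1 hx
  simpa [mul_assoc] using (hz.2.2 _ h1).map (MulAut.conj g).toMonoidHom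

theorem normal_inf_centralizer_le [Finite G] (X Y : Subgroup G) :
    normalizer (X : Set G) ⊓ normalizer (Y : Set G) ≤
      normalizer ((X ⊓ centralizer (Y : Set G) : Subgroup G) : Set G) := by
  refine le_normalizer_iff.2 fun g hg z hz =>
    ⟨(mem_normalizer_iff.1 hg.1 z).1 hz.1, mem_centralizer_iff.2 fun y hy => ?_⟩
  have h1 : g⁻¹ * y * g ∈ Y := by simpa using (mem_normalizer_iff.1 (inv_mem hg.2) y).1 hy
  have h2 : Commute (g⁻¹ * y * g) z := mem_centralizer_iff.1 hz.2 _ h1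
  simpa [Commute, SemiconjBy, mul_assoc] using h2.map (MulAut.conj g).toMonoidHom

/-- A nontrivial solvable normal subgroup of `M` contains an elementary one. -/
theorem exists_elem_le [Finite G] {M X : Subgroup G} [Group.IsSolvable M] (hX : X ≤ M)
    (hMX : M ≤ normalizer (X : Set G)) (hne : X ≠ ⊥) :
    ∃ N : Subgroup G, N ≤ X ∧ N ≠ ⊥ ∧ M ≤ normalizer (N : Set G) ∧
      ∃ t : ℕ, t.Prime ∧ t ∣ Nat.card X ∧ IsElem t N := by
  haveI := (Subgroup.normal_subgroupOf_iff_le_normalizer hX).2 hMX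
  obtain ⟨N, hNn, hNX, hN1, hmin⟩ := Cores.MinNormal.exists_minimal_le (K := X.subgroupOf M) (by
    rwa [Ne, Subgroup.subgroupOf_eq_bot, disjoint_iff, inf_eq_left.2 hX])
  obtain ⟨hcomm, t, ht, hpow⟩ := Cores.MinNormal.elementary_of_solvable hN1 hmin
  haveI := hNn
  haveI := Fact.mk ht
  have hle : N.map M.subtype ≤ X := by
    rintro _ ⟨x, hx, rfl⟩
    exact hNX hx
  have hne' : N.map M.subtype ≠ ⊥ := by
    rwa [Ne, Subgroup.map_eq_bot_iff_of_injective _ M.subtype_injective]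
  have hE : IsElem t (N.map M.subtype) := by
    refine ⟨?_, ?_⟩
    · rintro _ ⟨x, hx, rfl⟩ _ ⟨y, hy, rfl⟩
      exact congrArg Subtype.val (congrArg Subtype.val (mul_comm' (⟨x, hx⟩ : N) ⟨y, hy⟩))
    · rintro _ ⟨x, hx, rfl⟩
      rw [← map_pow, hpow x hx, map_one]
  refine ⟨_, hle, hne', ?_, t, ht, ?_, hE⟩
  · refine (Subgroup.normal_subgroupOf_iff_le_normalizer (Subgroup.map_subtype_le N)).1 ?_
    rwa [Subgroup.subgroupOf, Subgroup.comap_map_eq_self_of_injective M.subtype_injective]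
  · obtain ⟨x, hx, hx1⟩ := exists_ne_one_of_ne_bot hne'
    exact (hE.orderOf_eq hx hx1) ▸ Subgroup.orderOf_dvd_natCard X (hle hx)

theorem exists_isPlane_of_ne [Finite G] {t : ℕ} [Fact t.Prime] {a x : G} (ha : orderOf a = t)
    (hx : orderOf x = t) (hc : Commute a x) (h : x ∉ zpowers a) {R : Subgroup G} (haR : a ∈ R)
    (hxR : x ∈ R) : ∃ E : Subgroup G, E ≤ R ∧ IsPlane t E :=
  ⟨_, sup_le (zpowers_le.2 haR) (zpowers_le.2 hxR), isPlane_of_commute ha hx hc h⟩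

theorem isCyclic_of_unique [Finite G] {t : ℕ} [Fact t.Prime] (ht2 : t ≠ 2) {R : Subgroup G}
    (hR : IsPGroup t R)
    (hu : ∀ x ∈ R, ∀ y ∈ R, orderOf x = t → orderOf y = t → y ∈ zpowers x) : IsCyclic R :=
  PGroups.isCyclic_of_unique_prime ht2 hR fun x y hx hy => by
    rw [← Subgroup.orderOf_coe] at hx hy
    obtain ⟨k, hk⟩ := hu x x.2 y y.2 hx hy
    exact ⟨k, Subtype.ext hk⟩

end Cfsg.Agent.Lib.PrimeGraph.NoTriple
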