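import Cfsg.Agent.Lib.PrimeGraph.NoTriple.CaseOne
import Cfsg.Agent.Lib.PrimeGraph.NoTriple.CaseTwo
import Cfsg.Agent.Lib.PrimeGraph.Three

/-!
No solvable group has four primes, every two but no three of which are joined by element orders.
-/

set_option autoImplicit false
set_option linter.style.haveILetI false

namespace Cfsg.Agent.Lib.PrimeGraph.NoTriple

open Subgroup
open scoped Pointwise

universe u

/-- `σ` has four primes, every two but no three of which are joined in `G` -/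
def Joined (σ : Finset ℕ) (G : Type u) [Group G] : Prop :=
  (∀ x y z : G, orderOf x ∈ σ → orderOf y ∈ σ → orderOf z ∈ σ → orderOf x ≠ orderOf y →
    orderOf y ≠ orderOf z → orderOf x ≠ orderOf z → Commute x y → Commute y z → Commute x z →
      False) ∧
  ∀ p ∈ σ, ∀ q ∈ σ, p ≠ q → ∃ x y : G, orderOf x = p ∧ orderOf y = q ∧ Commute x y

variable {G : Type u} [Group G]

theorem exists_commute_of_orderOf_mul [Finite G] {p q : ℕ} {g : G} (hg : orderOf g = p * q)
    (hp : p ≠ 0) (hq : q ≠ 0) :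
    ∃ x y : G, x ∈ zpowers g ∧ y ∈ zpowers g ∧ orderOf x = p ∧ orderOf y = q ∧ Commute x y := by
  refine ⟨g ^ q, g ^ p, pow_mem (mem_zpowers g) q, pow_mem (mem_zpowers g) p, ?_, ?_,
    Commute.pow_pow (Commute.refl g) q p⟩
  · rw [orderOf_pow_of_dvd hq (hg ▸ dvd_mul_left q p), hg,
      Nat.mul_div_cancel _ (Nat.pos_of_ne_zero hq)]
  · rw [orderOf_pow_of_dvd hp (hg ▸ dvd_mul_right p q), hg,
      Nat.mul_div_cancel_left _ (Nat.pos_of_ne_zero hp)]

/-- every prime of a joined solvable group has a plane -/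
theorem exists_plane [Finite G] [Group.IsSolvable G] {σ : Finset ℕ} (hσ : σ.card = 4)
    (hprime : ∀ p ∈ σ, p.Prime) (h : Joined σ G) {p : ℕ} (hp : p ∈ σ) :
    ∃ E : Subgroup G, IsPlane p E := by
  haveI := Fact.mk (hprime p hp)
  by_contra hno
  push Not at hno
  have hpG : p ∣ Nat.card G := by
    obtain ⟨q, hq, hqp⟩ := Finset.exists_mem_ne (by rw [hσ]; norm_num : 1 < σ.card) p
    obtain ⟨x, -, hx, -⟩ := h.2 p hp q hq hqp.symm
    exact hx ▸ orderOf_dvd_natCard x
  obtain ⟨S⟩ := (inferInstance : Nonempty (Sylow p G))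
  have hS1 : (S : Subgroup G) ≠ ⊥ := S.ne_bot_of_dvd_card hpG
  obtain ⟨z, hz, hzo, hzc⟩ := exists_central S.isPGroup' hS1
  have hline : ∀ x : G, orderOf x = p → ∃ g : G, g * x * g⁻¹ ∈ zpowers z := by
    intro x hx
    obtain ⟨T, hT⟩ := (isPGroup_zpowers hx).exists_le_sylow
    obtain ⟨g, hg⟩ := MulAction.exists_smul_eq G T S
    have hm : g * x * g⁻¹ ∈ (S : Subgroup G) := by
      rw [← hg, Sylow.coe_subgroup_smul, Subgroup.mem_pointwise_smul_iff_inv_smul_mem]
      simpa [mul_assoc] using hT (mem_zpowers x)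
    refine ⟨g, by_contra fun hnot => ?_⟩
    exact hno _ (isPlane_of_commute hzo (by rw [orderOf_conj, hx]) (hzc _ hm) hnot)
  set C := centralizer ({z} : Set G) with hC
  have hCq : ∀ q ∈ σ, p ≠ q → q ∣ Nat.card C := by
    intro q hq hpq
    obtain ⟨x, y, hx, hy, hxy⟩ := h.2 p hp q hq hpq
    obtain ⟨g, hg⟩ := hline x hx
    have hx1 : g * x * g⁻¹ ≠ 1 := fun he => (hprime p hp).ne_one (by
      rw [← hx, ← orderOf_conj g x, he, orderOf_one])
    have hc : Commute (g * y * g⁻¹) z := commute_of_mem_zpowers hzo hg hx1 (by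
      simpa using (hxy.map (MulAut.conj g).toMonoidHom).symm)
    have hd := Subgroup.orderOf_dvd_natCard C (mem_cent.2 hc : g * y * g⁻¹ ∈ C)
    rwa [orderOf_conj, hy] at hd
  obtain ⟨q, hq, hqp⟩ := Finset.exists_mem_ne (by rw [hσ]; norm_num : 1 < σ.card) p
  obtain ⟨r, s, hr, hs, hrs, hpr, hps, hqr, hqs, -⟩ := exists_other_two hσ hp hq hqp.symm
  have hno2 : ∀ a ∈ σ, ∀ b ∈ σ, p ≠ a → p ≠ b → a ≠ b → ¬ Three.HasOrder C (a * b) := by
    rintro a ha b hb hpa hpb hab ⟨g, hg⟩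
    obtain ⟨x, y, -, -, hx, hy, hxy⟩ :=
      exists_commute_of_orderOf_mul hg (hprime a ha).ne_zero (hprime b hb).ne_zero
    rw [← Subgroup.orderOf_coe] at hx hy
    exact h.1 z x y (hzo ▸ hp) (hx ▸ ha) (hy ▸ hb) (hzo ▸ hx ▸ hpa) (hx ▸ hy ▸ hab)
      (hzo ▸ hy ▸ hpb) (mem_cent.1 x.2).symm (congrArg Subtype.val hxy.eq) (mem_cent.1 y.2).symm
  exact Three.not_isSolvable_of_three (G := C) (hprime q hq) (hprime r hr) (hprime s hs) hqr hqs hrs
    (hCq q hq hqp.symm) (hCq r hr hpr) (hCq s hs hps) (hno2 q hq r hr hqp.symm hpr hqr)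
    (hno2 q hq s hs hqp.symm hps hqs) (hno2 r hr s hs hpr hps hrs) inferInstance

theorem false_of_joined {σ : Finset ℕ} (hσ : σ.card = 4) (hprime : ∀ p ∈ σ, p.Prime) :
    ∀ (n : ℕ) (G : Type u) [Group G] [Finite G] [Group.IsSolvable G], Nat.card G = n →
      ¬ Joined σ G := by
  intro n
  induction n using Nat.strongRecOn with
  | ind n ih =>
    intro G _ _ _ hn h
    have hstep : ∀ H : Subgroup G,
        (∀ p ∈ σ, ∀ q ∈ σ, p ≠ q → ∃ x ∈ H, ∃ y ∈ H, orderOf x = p ∧ orderOf y = q ∧ Commute x y) →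
          H = ⊤ := by
      intro H hpair
      by_contra hne
      have hlt : Nat.card H < n := by
        rw [← hn]
        rcases Nat.lt_or_ge (Nat.card H) (Nat.card G) with h' | h'
        · exact h'
        · exact absurd (Subgroup.eq_top_of_le_card H h') hne
      refine ih _ hlt H rfl ⟨fun x y z hx hy hz hxy hyz hxz cxy cyz cxz => ?_, fun p hp q hq hpq => ?_⟩
      · rw [← Subgroup.orderOf_coe] at hx hy hz
        rw [← Subgroup.orderOf_coe, ← Subgroup.orderOf_coe] at hxy hyz hxz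
        exact h.1 x y z hx hy hz hxy hyz hxz (congrArg Subtype.val cxy.eq)
          (congrArg Subtype.val cyz.eq) (congrArg Subtype.val cxz.eq)
      · obtain ⟨x, hx, y, hy, hxo, hyo, hxy⟩ := hpair p hp q hq hpq
        exact ⟨⟨x, hx⟩, ⟨y, hy⟩, by rwa [Subgroup.orderOf_mk], by rwa [Subgroup.orderOf_mk],
          Subtype.ext hxy.eq⟩
    have hprimes : ∀ t : ℕ, t.Prime → t ∣ Nat.card G → t ∈ σ := by
      obtain ⟨H, hH⟩ := Hall.exists_isPiHall (G := G) (σ : Set ℕ)
      have hHtop : H = ⊤ := hstep H fun p hp q hq hpq => by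
        obtain ⟨x, y, hx, hy, hxy⟩ := h.2 p hp q hq hpq
        exact pair_into hH (hprime p hp) (hprime q hq) hpq hp hq hx hy hxy
      intro t ht htd
      exact hH.1 t ht (by rw [hHtop, Subgroup.card_top]; exact htd)
    have hctx : Ctx σ G :=
      ⟨hσ, hprime, hprimes, h.1, h.2, fun p hp => exists_plane hσ hprime h hp⟩
    have hsyl : ∀ (P : Subgroup G) [P.Normal] (p : ℕ), p.Prime → P ≠ ⊥ → IsElem p P →
        p ∈ σ ∧ ¬ p ∣ P.index ∧ ∃ K, Cfsg.IsPiHall {t : ℕ | t ≠ p} K ∧ P ⊔ K = ⊤ := by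
      intro P _ p hp hP1 hP
      haveI := Fact.mk hp
      obtain ⟨w₀, hw₀, hw₀1⟩ := exists_ne_one_of_ne_bot hP1
      have hpσ : p ∈ σ := hprimes p hp (hP.orderOf_eq hw₀ hw₀1 ▸ orderOf_dvd_natCard w₀)
      obtain ⟨K, hK⟩ := Hall.exists_isPiHall (G := G) {t : ℕ | t ≠ p}
      have hPK : P ⊔ K = ⊤ := by
        have key : ∀ b ∈ σ, b ≠ p → ∃ x ∈ P ⊔ K, ∃ y ∈ P ⊔ K,
            orderOf x = p ∧ orderOf y = b ∧ Commute x y := by
          intro b hb hbp
          haveI := Fact.mk (hprime b hb)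
          obtain ⟨E, hE⟩ := hctx.plane b hb
          obtain ⟨F, hFK, hF⟩ := plane_into hK (hprime b hb) hbp hE
          obtain ⟨g, hg, hg1, w, hw, hw1, hwg⟩ := exists_fix hF.toIsElem hF.not_isCyclic
            (by rw [Subgroup.normalizer_eq_top]; exact le_top)
            (coprime_of_isPGroup (hprime b hb) hp hbp hF.toIsElem.isPGroup hP.isPGroup) hP1
          exact ⟨w, mem_sup_left hw, g, mem_sup_right (hFK hg), hP.orderOf_eq hw hw1,
            hF.toIsElem.orderOf_eq hg hg1, hwg⟩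
        refine hstep _ fun a ha b hb hab => ?_
        rcases eq_or_ne a p with rfl | hap
        · exact key b hb hab.symm
        rcases eq_or_ne b p with rfl | hbp
        · obtain ⟨x, hx, y, hy, hxo, hyo, hxy⟩ := key a ha hap
          exact ⟨y, hy, x, hx, hyo, hxo, hxy.symm⟩
        · obtain ⟨x, y, hx, hy, hxy⟩ := h.2 a ha b hb hab
          obtain ⟨x', hx', y', hy', rest⟩ :=
            pair_into hK (hprime a ha) (hprime b hb) hab hap hbp hx hy hxy
          exact ⟨x', mem_sup_right hx', y', mem_sup_right hy', rest⟩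
      refine ⟨hpσ, fun hd => ?_, K, hK, hPK⟩
      have h1 := Hall.card_sup_dvd K P
      rw [sup_comm, hPK, Subgroup.card_top, ← P.card_mul_index, mul_comm (Nat.card K)] at h1
      exact hK.1 p hp (hd.trans (Nat.dvd_of_mul_dvd_mul_left Nat.card_pos h1)) rfl
    haveI : Nontrivial G := by
      obtain ⟨p, hp⟩ := Finset.card_pos.1 (by rw [hσ]; norm_num : 0 < σ.card)
      obtain ⟨E, hE⟩ := hctx.plane p hp
      haveI := Fact.mk (hprime p hp)
      by_contra hnt
      rw [not_nontrivial_iff_subsingleton] at hnt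
      exact hE.not_isCyclic inferInstance
    obtain ⟨P, hPn, hP1, hPmin⟩ := Cores.MinNormal.exists_minimal (G := G)
    obtain ⟨hPc, p, hpp, hPpow⟩ := Cores.MinNormal.elementary_of_solvable hP1 hPmin
    have hP : IsElem p P :=
      ⟨fun x hx y hy => congrArg Subtype.val (mul_comm' (⟨x, hx⟩ : P) ⟨y, hy⟩), hPpow⟩
    obtain ⟨hpσ, hPidx, K, hK, hPK⟩ := hsyl P p hpp hP1 hP
    set D := K ⊓ centralizer (P : Set G) with hD
    by_cases hD1 : D = ⊥
    · refine caseOne hctx hpσ hP hP1 (fun V hV hKV => hPmin V ?_ hV) (fun g hg hc => ?_) hK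
      · rw [← Subgroup.normalizer_eq_top_iff, ← top_le_iff, ← hPK]
        exact sup_le (fun x hx => centralizer_le_normalizer _
          (mem_centralizer_iff.2 fun v hv => (hP.comm x hx v (hV hv)).eq.symm)) hKV
      · have hgD : g ∈ D := ⟨hg, mem_centralizer_iff.2 fun w hw => (hc w hw).eq.symm⟩
        rwa [hD1, mem_bot] at hgD
    · haveI hDn : D.Normal := by
        rw [← Subgroup.normalizer_eq_top_iff, ← top_le_iff, ← hPK]
        refine sup_le (fun x hx => centralizer_le_normalizer _ ?_) fun k hk => ?_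
        · exact mem_centralizer_iff.2 fun d hd => (mem_centralizer_iff.1 hd.2 x hx).symm
        · exact normal_inf_centralizer_le K P
            ⟨Subgroup.le_normalizer hk, by rw [Subgroup.normalizer_eq_top]; exact mem_top k⟩
      obtain ⟨Q, hQn, hQD, hQ1, hQmin⟩ := Cores.MinNormal.exists_minimal_le hD1
      obtain ⟨hQc, q, hqp, hQpow⟩ := Cores.MinNormal.elementary_of_solvable hQ1 hQmin
      have hQ : IsElem q Q :=
        ⟨fun x hx y hy => congrArg Subtype.val (mul_comm' (⟨x, hx⟩ : Q) ⟨y, hy⟩), hQpow⟩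
      obtain ⟨hqσ, hQidx, -⟩ := hsyl Q q hqp hQ1 hQ
      haveI := Fact.mk hqp
      obtain ⟨v, hv, hv1⟩ := exists_ne_one_of_ne_bot hQ1
      have hqne : q ≠ p := hK.1 q hqp
        (hQ.orderOf_eq hv hv1 ▸ Subgroup.orderOf_dvd_natCard K (hQD hv).1)
      exact caseTwo hctx hpσ hqσ hqne.symm hP hQ hP1 hQ1 hPmin hQmin hPidx hQidx

theorem not_isSolvable {G : Type u} [Group G] [Finite G]
    (σ : Finset ℕ) (hσ : 4 ≤ σ.card) (hprime : ∀ p ∈ σ, p.Prime)
    (h2 : ∀ p ∈ σ, ∀ q ∈ σ, p ≠ q → ∃ g : G, orderOf g = p * q)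
    (h3 : ∀ p ∈ σ, ∀ q ∈ σ, ∀ r ∈ σ, p ≠ q → q ≠ r → p ≠ r → ∀ g : G, orderOf g ≠ p * q * r) :
    ¬ Group.IsSolvable G := by
  intro hG
  obtain ⟨τ, hτ, hτ4⟩ := Finset.exists_subset_card_eq hσ
  have hprime' : ∀ p ∈ τ, p.Prime := fun p hp => hprime p (hτ hp)
  refine false_of_joined hτ4 hprime' _ G rfl ⟨?_, fun p hp q hq hpq => ?_⟩
  · intro x y z hx hy hz hxy hyz hxz cxy cyz cxz
    have px := hprime' _ hx
    have py := hprime' _ hy
    have pz := hprime' _ hz
    have e1 : orderOf (x * y) = orderOf x * orderOf y :=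
      cxy.orderOf_mul_eq_mul_orderOf_of_coprime ((Nat.coprime_primes px py).2 hxy)
    have e2 : orderOf (x * y * z) = orderOf x * orderOf y * orderOf z := by
      rw [(cxz.mul_left cyz).orderOf_mul_eq_mul_orderOf_of_coprime ?_, e1]
      rw [e1]
      exact Nat.Coprime.mul_left ((Nat.coprime_primes px pz).2 hxz)
        ((Nat.coprime_primes py pz).2 hyz)
    exact h3 _ (hτ hx) _ (hτ hy) _ (hτ hz) hxy hyz hxz _ e2
  · obtain ⟨g, hg⟩ := h2 p (hτ hp) q (hτ hq) hpq
    obtain ⟨x, y, -, -, rest⟩ :=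
      exists_commute_of_orderOf_mul hg (hprime' p hp).ne_zero (hprime' q hq).ne_zero
    exact ⟨x, y, rest⟩

end Cfsg.Agent.Lib.PrimeGraph.NoTriple
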